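import Mathlib

/-!
Matrices `A` such that no non-zero symmetric form is invariant under `A` or its transpose, in every
size needed for commutators in symplectic groups.
-/

set_option autoImplicit false

namespace CfsgLib.OreSp

open Matrix

variable {F : Type*} [Field F]
variable {ι κ : Type*} [Fintype ι] [DecidableEq ι] [Fintype κ] [DecidableEq κ]

/-- no non-zero symmetric form is invariant under `A` or under its transpose -/
def Good (A : Matrix ι ι F) : Prop :=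
  ∀ S : Matrix ι ι F, Sᵀ = S → (Aᵀ * S * A = S → S = 0) ∧ (A * S * Aᵀ = S → S = 0)

/-- `A` is annihilated by the polynomial with coefficients `c` and the reversed polynomial is
invertible at `A` -/
def Ann {n : ℕ} (c : Fin (n + 1) → F) (A : Matrix ι ι F) : Prop :=
  ∑ i, c i • A ^ (i : ℕ) = 0 ∧
    ∃ K : Matrix ι ι F, (∑ i, c i • A ^ (n - (i : ℕ))) * K = 1

theorem pow_mul_pow {S A B : Matrix ι ι F} (h : B * S * A = S) :
    ∀ i : ℕ, B ^ i * S * A ^ i = S
  | 0 => by simp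
  | i + 1 => by
    conv_rhs => rw [← h, ← pow_mul_pow h i]
    rw [pow_succ', pow_succ]
    simp only [Matrix.mul_assoc]

theorem eq_zero_of_ann {n : ℕ} {c : Fin (n + 1) → F} {A B S : Matrix ι ι F}
    (hB : ∑ i, c i • B ^ (i : ℕ) = 0) {K : Matrix ι ι F}
    (hA : (∑ i, c i • A ^ (n - (i : ℕ))) * K = 1) (h : B * S * A = S) : S = 0 := by
  have h0 : S * ∑ i, c i • A ^ (n - (i : ℕ)) = 0 := by
    have h1 : (∑ i, c i • B ^ (i : ℕ)) * (S * A ^ n) = 0 := by rw [hB, Matrix.zero_mul]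
    rw [Matrix.sum_mul] at h1
    rw [Matrix.mul_sum, ← h1]
    refine Finset.sum_congr rfl fun i _ => ?_
    rw [smul_mul_assoc, mul_smul_comm]
    congr 1
    have hi : (i : ℕ) + (n - (i : ℕ)) = n := by have := i.isLt; omega
    calc S * A ^ (n - (i : ℕ)) = B ^ (i : ℕ) * S * A ^ (i : ℕ) * A ^ (n - (i : ℕ)) := by
          rw [pow_mul_pow h]
      _ = B ^ (i : ℕ) * (S * A ^ n) := by
          rw [Matrix.mul_assoc _ (A ^ (i : ℕ)), ← pow_add, hi, Matrix.mul_assoc]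
  calc S = S * ((∑ i, c i • A ^ (n - (i : ℕ))) * K) := by rw [hA, Matrix.mul_one]
    _ = 0 := by rw [← Matrix.mul_assoc, h0, Matrix.zero_mul]

theorem Ann.good {n : ℕ} {c : Fin (n + 1) → F} {A : Matrix ι ι F} (h : Ann c A) : Good A := by
  obtain ⟨h0, K, hK⟩ := h
  intro S _
  have hT : ∀ p : ℕ → ℕ, (∑ i : Fin (n + 1), c i • A ^ p i)ᵀ = ∑ i : Fin (n + 1), c i • Aᵀ ^ p i := by
    intro p
    rw [transpose_sum]
    simp only [transpose_smul, transpose_pow]
  refine ⟨eq_zero_of_ann (by have h := hT id; simp only [id_eq] at h; rw [← h, h0, transpose_zero]) hK,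
    eq_zero_of_ann h0 (K := Kᵀ) ?_⟩
  rw [← hT fun i => n - i, ← transpose_mul]
  rw [mul_eq_one_comm.1 hK, transpose_one]

theorem fromBlocks_pow_diag (A : Matrix ι ι F) (B : Matrix κ κ F) :
    ∀ k : ℕ, fromBlocks A 0 0 B ^ k = fromBlocks (A ^ k) 0 0 (B ^ k)
  | 0 => by simp [fromBlocks_one]
  | k + 1 => by rw [pow_succ, pow_succ, pow_succ, fromBlocks_pow_diag A B k, fromBlocks_multiply]; simp

theorem sum_fromBlocks {n : ℕ} (c : Fin (n + 1) → F) (A : Matrix ι ι F) (B : Matrix κ κ F)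
    (p : ℕ → ℕ) :
    ∑ i, c i • fromBlocks A 0 0 B ^ p i =
      fromBlocks (∑ i, c i • A ^ p i) 0 0 (∑ i, c i • B ^ p i) := by
  simp only [fromBlocks_pow_diag, fromBlocks_smul, smul_zero]
  ext (i | i) (j | j) <;> simp [Matrix.sum_apply]

theorem Ann.blocks {n : ℕ} {c : Fin (n + 1) → F} {A : Matrix ι ι F} {B : Matrix κ κ F}
    (hA : Ann c A) (hB : Ann c B) : Ann c (fromBlocks A 0 0 B) := by
  obtain ⟨ha, K, hK⟩ := hA
  obtain ⟨hb, L, hL⟩ := hB
  refine ⟨?_, fromBlocks K 0 0 L, ?_⟩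
  · have := sum_fromBlocks c A B id
    simp only [id_eq] at this
    rw [this, ha, hb, fromBlocks_zero]
  · rw [sum_fromBlocks c A B fun i => n - i, fromBlocks_multiply]
    simp [hK, hL, fromBlocks_one]

theorem Ann.reindex {n : ℕ} {c : Fin (n + 1) → F} {A : Matrix ι ι F} (hA : Ann c A) (e : ι ≃ κ) :
    Ann c (Matrix.reindexAlgEquiv F F e A) := by
  obtain ⟨h, K, hK⟩ := hA
  refine ⟨?_, Matrix.reindexAlgEquiv F F e K, ?_⟩
  · simp only [← map_pow, ← map_smul, ← map_sum]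
    rw [h, map_zero]
  · simp only [← map_pow, ← map_smul, ← map_sum]
    rw [← map_mul, hK, map_one]

theorem Ann.map {R : Type*} [Field R] (φ : R →+* F) {n : ℕ} {c : Fin (n + 1) → R}
    {A : Matrix ι ι R} (hA : Ann c A) : Ann (fun i => φ (c i)) (φ.mapMatrix A) := by
  obtain ⟨h, K, hK⟩ := hA
  have hs : ∀ p : ℕ → ℕ, ∑ i : Fin (n + 1), φ (c i) • (φ.mapMatrix A) ^ p i =
      φ.mapMatrix (∑ i : Fin (n + 1), c i • A ^ p i) := by
    intro p
    rw [map_sum]
    refine Finset.sum_congr rfl fun i _ => ?_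
    rw [← map_pow]
    ext a b
    simp
  refine ⟨?_, φ.mapMatrix K, ?_⟩
  · have := hs id
    simp only [id_eq] at this
    rw [this, h, map_zero]
  · rw [hs fun i => n - i, ← map_mul, hK, map_one]

/-- powers block-diagonally -/
theorem exists_ann_add {n : ℕ} {c : Fin (n + 1) → F} {a b : ℕ}
    (ha : ∃ A : Matrix (Fin a) (Fin a) F, Ann c A) (hb : ∃ A : Matrix (Fin b) (Fin b) F, Ann c A) :
    ∃ A : Matrix (Fin (a + b)) (Fin (a + b)) F, Ann c A := by
  obtain ⟨A, hA⟩ := ha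
  obtain ⟨B, hB⟩ := hb
  exact ⟨_, (hA.blocks hB).reindex finSumFinEquiv⟩

theorem exists_ann_mul {n : ℕ} {c : Fin (n + 1) → F} {a : ℕ}
    (ha : ∃ A : Matrix (Fin a) (Fin a) F, Ann c A) :
    ∀ j : ℕ, ∃ A : Matrix (Fin (a * (j + 1))) (Fin (a * (j + 1))) F, Ann c A
  | 0 => by rw [Nat.zero_add, Nat.mul_one]; exact ha
  | j + 1 => by rw [Nat.mul_succ a (j + 1)]; exact exists_ann_add (exists_ann_mul ha j) ha

theorem exists_good_large [Fintype F] (hq : 4 ≤ Fintype.card F) :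
    ∃ A : Matrix ι ι F, A.det ≠ 0 ∧ Good A := by
  classical
  obtain ⟨a, ha⟩ : ∃ a : F, a ∉ ({0, 1, -1} : Finset F) := by
    by_contra hne
    simp only [not_exists, not_not] at hne
    have h1 := Finset.card_le_card (show (Finset.univ : Finset F) ⊆ {0, 1, -1} from fun x _ => hne x)
    have h2 : ({0, 1, -1} : Finset F).card ≤ 3 := Finset.card_le_three
    rw [Finset.card_univ] at h1
    omega
  simp only [Finset.mem_insert, Finset.mem_singleton, not_or] at ha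
  refine ⟨a • 1, by simp [det_smul, ha.1], fun S _ => ?_⟩
  have key : a • a • S = S → S = 0 := by
    intro h
    rw [smul_smul] at h
    by_contra hS
    have h1 : (a * a - 1) • S = 0 := by rw [sub_smul, h, one_smul, sub_self]
    rcases smul_eq_zero.1 h1 with h2 | h2
    · rcases mul_self_eq_one_iff.1 (sub_eq_zero.1 h2) with h3 | h3
      · exact ha.2.1 h3
      · exact ha.2.2 h3
    · exact hS h2
  constructor <;> intro h <;> apply key <;> simpa [smul_smul] using h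

theorem Ann.det_ne_zero {n : ℕ} {c : Fin (n + 1) → F} {A : Matrix ι ι F} (h : Ann c A)
    (hn : c (Fin.last n) ≠ 0) (h0 : c 0 ≠ 0) : A.det ≠ 0 := by
  intro hd
  obtain ⟨v, hv, hAv⟩ := exists_mulVec_eq_zero_iff.2 hd
  have h1 := congrArg (fun M => M *ᵥ v) h.1
  simp only [sum_mulVec, smul_mulVec, zero_mulVec] at h1
  rw [Finset.sum_eq_single 0] at h1
  · simp [smul_eq_zero, h0, hv] at h1
  · intro i _ hi
    have : (i : ℕ) = (i : ℕ) - 1 + 1 := by
      have : (i : ℕ) ≠ 0 := fun h => hi (Fin.ext h)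
      omega
    rw [this, pow_succ, ← mulVec_mulVec, hAv, mulVec_zero, smul_zero]
  · simp

section Small

/-- coefficients over three elements, even sizes -/
def cEven : Fin 7 → ZMod 3 := ![1, 1, 1, 2, 0, 2, 1]

/-- coefficients over three elements, odd sizes -/
def cOdd : Fin 6 → ZMod 3 := ![2, 2, 2, 0, 1, 1]

/-- coefficients over two elements -/
def cTwo : Fin 8 → ZMod 2 := ![1, 0, 1, 1, 0, 1, 0, 1]

/-- the block of size two over three elements -/
def aTwo : Matrix (Fin 2) (Fin 2) (ZMod 3) := !![0, 1; 1, 1]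

/-- the special block of size four over three elements -/
def aFour : Matrix (Fin 4) (Fin 4) (ZMod 3) :=
  !![0, 2, 0, 0; 0, 0, 0, 1; 2, 0, 0, 2; 0, 0, 1, 0]

/-- `diag(1, 1, -1, 2)` conjugates `aFour` to `diag(1, 1, -1, -1) * aFour` -/
def pFour : Matrix (Fin 4) (Fin 4) (ZMod 3) :=
  !![1, 0, 0, 0; 0, 1, 0, 0; 0, 0, 2, 0; 0, 0, 0, 1]

theorem ann_aTwo_even : Ann cEven aTwo := by
  refine ⟨by decide +kernel, !![2, 2; 2, 1], by decide +kernel⟩

theorem ann_aTwo_odd : Ann cOdd aTwo := by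
  refine ⟨by decide +kernel, 1, by decide +kernel⟩

theorem ann_aFour : Ann cEven aFour := by
  refine ⟨by decide +kernel, !![1, 2, 0, 1; 0, 1, 2, 1; 2, 2, 2, 2; 1, 0, 1, 2], by decide +kernel⟩

theorem aFour_conj : pFour * aFour =
    !![1, 0, 0, 0; 0, 1, 0, 0; 0, 0, 2, 0; 0, 0, 0, 2] * aFour * pFour ∧ pFour * pFour = 1 := by
  decide +kernel

theorem coeff_ne :
    cEven (Fin.last 6) ≠ 0 ∧ cEven 0 ≠ 0 ∧ cOdd (Fin.last 5) ≠ 0 ∧ cOdd 0 ≠ 0 ∧
      cTwo (Fin.last 7) ≠ 0 ∧ cTwo 0 ≠ 0 ∧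
      (![1, 0, 1, 0, 0, 1] : Fin 6 → ZMod 2) (Fin.last 5) ≠ 0 ∧
      (![1, 0, 1, 0, 0, 1] : Fin 6 → ZMod 2) 0 ≠ 0 := by decide +kernel

theorem diag_four : (!![1, 0, 0, 0; 0, 1, 0, 0; 0, 0, 2, 0; 0, 0, 0, 2] : Matrix (Fin 4) (Fin 4) (ZMod 3)) =
    diagonal (fun i => if i = 2 ∨ i = 3 then -1 else 1) := by decide +kernel

theorem ann_three : Ann cOdd (!![0, 0, 2; 1, 0, 0; 0, 1, 1] : Matrix (Fin 3) (Fin 3) (ZMod 3)) := by
  refine ⟨by decide +kernel, !![0, 2, 1; 1, 0, 2; 1, 2, 2], by decide +kernel⟩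

theorem ann_two_three : Ann cTwo (!![0, 0, 1; 1, 0, 1; 0, 1, 0] : Matrix (Fin 3) (Fin 3) (ZMod 2)) := by
  refine ⟨by decide +kernel, !![0, 0, 1; 1, 0, 1; 0, 1, 0], by decide +kernel⟩

theorem ann_two_four :
    Ann cTwo (!![0, 0, 0, 1; 1, 0, 0, 1; 0, 1, 0, 0; 0, 0, 1, 0] : Matrix (Fin 4) (Fin 4) (ZMod 2)) := by
  refine ⟨by decide +kernel, !![1, 0, 1, 0; 0, 1, 1, 1; 1, 0, 1, 1; 0, 1, 0, 1], by decide +kernel⟩

theorem ann_two_five : Ann (![1, 0, 1, 0, 0, 1] : Fin 6 → ZMod 2)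
    (!![0, 0, 0, 0, 1; 1, 0, 0, 0, 0; 0, 1, 0, 0, 1; 0, 0, 1, 0, 0; 0, 0, 0, 1, 0] :
      Matrix (Fin 5) (Fin 5) (ZMod 2)) := by
  refine ⟨by decide +kernel, !![1, 0, 0, 1, 1; 1, 1, 0, 0, 1; 1, 1, 1, 1, 1; 0, 1, 1, 1, 1; 0, 0, 1, 1, 1],
    by decide +kernel⟩

theorem exists_ann_three : ∀ k : ℕ, 2 ≤ k →
    ∃ (A : Matrix (Fin k) (Fin k) (ZMod 3)), Ann cEven A ∨ Ann cOdd A := by
  intro k hk
  rcases Nat.even_or_odd k with ⟨j, rfl⟩ | ⟨j, rfl⟩
  · obtain ⟨i, rfl⟩ : ∃ i, j = i + 1 := ⟨j - 1, by omega⟩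
    rw [show i + 1 + (i + 1) = 2 * (i + 1) by ring]
    obtain ⟨A, hA⟩ := exists_ann_mul ⟨aTwo, ann_aTwo_even⟩ i
    exact ⟨A, Or.inl hA⟩
  · rcases Nat.lt_or_ge j 2 with hj | hj
    · obtain rfl : j = 1 := by omega
      exact ⟨_, Or.inr ann_three⟩
    · obtain ⟨i, rfl⟩ : ∃ i, j = i + 2 := ⟨j - 2, by omega⟩
      rw [show 2 * (i + 2) + 1 = 2 * (i + 1) + 3 by ring]
      obtain ⟨A, hA⟩ := exists_ann_add (exists_ann_mul ⟨aTwo, ann_aTwo_odd⟩ i) ⟨_, ann_three⟩
      exact ⟨A, Or.inr hA⟩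

theorem exists_ann_two : ∀ k : ℕ, 3 ≤ k → k ≠ 5 →
    ∃ A : Matrix (Fin k) (Fin k) (ZMod 2), Ann cTwo A := by
  intro k
  induction k using Nat.strong_induction_on with
  | _ k ih =>
    intro hk h5
    by_cases h3 : k = 3
    · subst h3; exact ⟨_, ann_two_three⟩
    by_cases h4 : k = 4
    · subst h4; exact ⟨_, ann_two_four⟩
    by_cases h8 : k = 8
    · subst h8; exact exists_ann_add (a := 4) (b := 4) ⟨_, ann_two_four⟩ ⟨_, ann_two_four⟩
    obtain ⟨l, rfl⟩ : ∃ l, k = l + 3 := ⟨k - 3, by omega⟩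
    exact exists_ann_add (ih l (by omega) (by omega) (by omega)) ⟨_, ann_two_three⟩

/-- the embedding of the prime field -/
theorem exists_hom [Fintype F] {p : ℕ} [Fact p.Prime] (h : Fintype.card F = p) :
    ∃ φ : ZMod p →+* F, Function.Injective φ := by
  haveI : CharP F p := charP_of_card_eq_prime h
  exact ⟨ZMod.castHom dvd_rfl F, RingHom.injective _⟩

theorem exists_good [Fintype F] (k : ℕ) (hk : 1 ≤ k) (h3 : Fintype.card F = 3 → 2 ≤ k)
    (h2 : Fintype.card F = 2 → 3 ≤ k) :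
    ∃ A : Matrix (Fin k) (Fin k) F, A.det ≠ 0 ∧ Good A := by
  rcases Nat.lt_or_ge (Fintype.card F) 4 with hq | hq
  · have h1 : 1 < Fintype.card F := Fintype.one_lt_card
    by_cases hc : Fintype.card F = 3
    · haveI : Fact (Nat.Prime 3) := ⟨Nat.prime_three⟩
      obtain ⟨φ, hφ⟩ := exists_hom hc
      obtain ⟨A, hA⟩ := exists_ann_three k (h3 hc)
      rcases hA with hA | hA
      · exact ⟨_, (hA.map φ).det_ne_zero (fun h => coeff_ne.1 ((map_eq_zero_iff _ hφ).1 h))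
          (fun h => coeff_ne.2.1 ((map_eq_zero_iff _ hφ).1 h)), (hA.map φ).good⟩
      · exact ⟨_, (hA.map φ).det_ne_zero (fun h => coeff_ne.2.2.1 ((map_eq_zero_iff _ hφ).1 h))
          (fun h => coeff_ne.2.2.2.1 ((map_eq_zero_iff _ hφ).1 h)), (hA.map φ).good⟩
    · have hc2 : Fintype.card F = 2 := by omega
      haveI : Fact (Nat.Prime 2) := ⟨Nat.prime_two⟩
      obtain ⟨φ, hφ⟩ := exists_hom hc2
      by_cases h5 : k = 5
      · subst h5
        exact ⟨_, (ann_two_five.map φ).det_ne_zero (fun h => coeff_ne.2.2.2.2.2.2.1 ((map_eq_zero_iff _ hφ).1 h))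
          (fun h => coeff_ne.2.2.2.2.2.2.2 ((map_eq_zero_iff _ hφ).1 h)), (ann_two_five.map φ).good⟩
      · obtain ⟨A, hA⟩ := exists_ann_two k (h2 hc2) h5
        exact ⟨_, (hA.map φ).det_ne_zero (fun h => coeff_ne.2.2.2.2.1 ((map_eq_zero_iff _ hφ).1 h))
          (fun h => coeff_ne.2.2.2.2.2.1 ((map_eq_zero_iff _ hφ).1 h)), (hA.map φ).good⟩
  · exact exists_good_large hq

/-- in even size over three elements: an element conjugate to its product by `diag(1,…,1,-1,-1)` -/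
theorem exists_good_flip [Fintype F] (hc : Fintype.card F = 3) (j : ℕ) :
    ∃ (ι : Type) (_ : Fintype ι) (_ : DecidableEq ι) (a b : ι) (A P : Matrix ι ι F),
      a ≠ b ∧ Fintype.card ι = 2 * (j + 2) ∧ A.det ≠ 0 ∧ P.det ≠ 0 ∧ Good A ∧
      P * A = diagonal (fun i => if i = a ∨ i = b then -1 else 1) * A * P := by
  haveI : Fact (Nat.Prime 3) := ⟨Nat.prime_three⟩
  obtain ⟨φ, hφ⟩ := exists_hom hc
  have hd4 := diag_four
  cases j with
  | zero =>
    refine ⟨Fin 4, inferInstance, inferInstance, 2, 3, φ.mapMatrix aFour, φ.mapMatrix pFour, by decide, by simp,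
      (ann_aFour.map φ).det_ne_zero (fun h => coeff_ne.1 ((map_eq_zero_iff _ hφ).1 h))
        (fun h => coeff_ne.2.1 ((map_eq_zero_iff _ hφ).1 h)), ?_, (ann_aFour.map φ).good, ?_⟩
    · refine det_ne_zero_of_right_inverse (B := φ.mapMatrix pFour) ?_
      rw [← map_mul, aFour_conj.2, map_one]
    · rw [← map_mul, aFour_conj.1, map_mul, map_mul, hd4, RingHom.mapMatrix_apply, diagonal_map (map_zero φ)]
      congr 3
      funext i
      simp [apply_ite φ]
  | succ i =>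
    obtain ⟨B, hB⟩ := exists_ann_mul ⟨aTwo, ann_aTwo_even⟩ i
    set A0 := fromBlocks aFour 0 0 B with hA0
    set P0 := fromBlocks pFour 0 0 (1 : Matrix (Fin (2 * (i + 1))) (Fin (2 * (i + 1))) (ZMod 3)) with hP0
    have hA : Ann cEven A0 := ann_aFour.blocks hB
    refine ⟨Fin 4 ⊕ Fin (2 * (i + 1)), inferInstance, inferInstance, Sum.inl 2, Sum.inl 3, φ.mapMatrix A0,
      φ.mapMatrix P0, by simp, by simp; omega,
      (hA.map φ).det_ne_zero (fun h => coeff_ne.1 ((map_eq_zero_iff _ hφ).1 h))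
        (fun h => coeff_ne.2.1 ((map_eq_zero_iff _ hφ).1 h)), ?_, (hA.map φ).good, ?_⟩
    · refine det_ne_zero_of_right_inverse (B := φ.mapMatrix P0) ?_
      rw [← map_mul, hP0, fromBlocks_multiply]
      simp [aFour_conj.2, fromBlocks_one]
    · have he : P0 * A0 = fromBlocks (diagonal fun i => if i = 2 ∨ i = 3 then -1 else 1) 0 0 1 * A0 * P0 := by
        rw [hP0, hA0]
        simp only [fromBlocks_multiply]
        simp [← hd4, aFour_conj.1]
      rw [← map_mul, he, map_mul, map_mul]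
      congr 2
      rw [RingHom.mapMatrix_apply, fromBlocks_map]
      simp only [Matrix.map_zero _ (map_zero φ), Matrix.map_one _ (map_zero φ) (map_one φ),
        diagonal_map (map_zero φ)]
      rw [← diagonal_one, fromBlocks_diagonal]
      congr 1
      funext x
      rcases x with x | x <;> simp [apply_ite φ]

end Small

end CfsgLib.OreSp
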