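import Cfsg.Agent.Lib.OreSp.Good

/-!
An element of a symplectic group whose upper left block is a commutator with a good first factor is a
commutator.
-/

set_option autoImplicit false

namespace CfsgLib.OreSp

open Matrix

variable {F : Type*} [Field F] {ι : Type*} [Fintype ι] [DecidableEq ι]

local notation "MM" => Matrix ι ι F
local notation "SP" => Matrix.symplecticGroup ι F

/-- Levi element -/
noncomputable def dgi (A : Matrix ι ι F) : Matrix (ι ⊕ ι) (ι ⊕ ι) F := fromBlocks A 0 0 (A⁻¹)ᵀ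

/-- lower unipotent element -/
def lowi (S : Matrix ι ι F) : Matrix (ι ⊕ ι) (ι ⊕ ι) F := fromBlocks 1 0 S 1

/-- upper unipotent element -/
def upi (S : Matrix ι ι F) : Matrix (ι ⊕ ι) (ι ⊕ ι) F := fromBlocks 1 S 0 1

theorem det_unit {R : MM} (h : R.det ≠ 0) : IsUnit R.det := isUnit_iff_ne_zero.2 h

theorem det_inv_ne {R : MM} (h : R.det ≠ 0) : (R⁻¹).det ≠ 0 := by
  rw [det_nonsing_inv, Ring.inverse_eq_inv']; exact inv_ne_zero h

theorem dgi_mem {A : MM} (hA : A.det ≠ 0) : dgi A ∈ SP := by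
  refine SymplecticGroup.fromBlocks_mem_iff.2 ⟨by simp, by simp, ?_⟩
  rw [← transpose_mul, nonsing_inv_mul A (det_unit hA)]
  simp

theorem lowi_mem {S : MM} (hS : Sᵀ = S) : lowi S ∈ SP :=
  SymplecticGroup.fromBlocks_mem_iff.2 ⟨by simp [hS], by simp, by simp⟩

theorem upi_mem {S : MM} (hS : Sᵀ = S) : upi S ∈ SP :=
  SymplecticGroup.fromBlocks_mem_iff.2 ⟨by simp, by simp [hS], by simp⟩

theorem dgi_mul (A B : MM) : dgi A * dgi B = dgi (A * B) := by
  simp [dgi, fromBlocks_multiply, Matrix.mul_inv_rev]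

theorem Good.inv {A : MM} (hA : A.det ≠ 0) (h : Good A) : Good A⁻¹ := by
  have hu := det_unit hA
  have hu' : IsUnit (Aᵀ).det := by rwa [det_transpose]
  intro S hS
  constructor
  · intro hfix
    refine (h S hS).1 ?_
    conv_lhs => rw [← hfix]
    rw [transpose_nonsing_inv]
    simp [Matrix.mul_assoc, nonsing_inv_mul A hu, mul_nonsing_inv_cancel_left _ _ hu']
  · intro hfix
    refine (h S hS).2 ?_
    conv_lhs => rw [← hfix]
    rw [transpose_nonsing_inv]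
    simp [Matrix.mul_assoc, nonsing_inv_mul _ hu', mul_nonsing_inv_cancel_left _ _ hu]

theorem Good.transpose {A : MM} (h : Good A) : Good Aᵀ := fun S hS =>
  ⟨fun hf => (h S hS).2 (by rwa [transpose_transpose] at hf),
    fun hf => (h S hS).1 (by rwa [transpose_transpose] at hf)⟩

theorem congr_eq_zero {P S : MM} (hP : P.det ≠ 0) (h : Pᵀ * S * P = 0) : S = 0 := by
  have hu := det_unit hP
  have hT : IsUnit (Pᵀ).det := by rwa [det_transpose]
  have h1 : S * P = 0 := by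
    have := congrArg (fun X => (Pᵀ)⁻¹ * X) h
    simpa [← Matrix.mul_assoc, nonsing_inv_mul _ hT] using this
  have := congrArg (fun X => X * P⁻¹) h1
  simpa [Matrix.mul_assoc, mul_nonsing_inv _ hu] using this

theorem fix_conj {A P S : MM} (hP : P.det ≠ 0)
    (hA : ∀ T : MM, Tᵀ = T → Aᵀ * T * A = T → T = 0) (hS : Sᵀ = S)
    (h : (P * A * P⁻¹)ᵀ * S * (P * A * P⁻¹) = S) : S = 0 := by
  refine congr_eq_zero hP (hA _ (by simp [Matrix.transpose_mul, hS, Matrix.mul_assoc]) ?_)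
  have e : P * A * P⁻¹ * P = P * A := by
    rw [Matrix.mul_assoc, nonsing_inv_mul P (det_unit hP), Matrix.mul_one]
  calc Aᵀ * (Pᵀ * S * P) * A = (P * A)ᵀ * S * (P * A) := by
        simp only [Matrix.transpose_mul, Matrix.mul_assoc]
    _ = Pᵀ * ((P * A * P⁻¹)ᵀ * S * (P * A * P⁻¹)) * P := by
        conv_lhs => rw [← e]
        simp only [Matrix.transpose_mul, Matrix.mul_assoc]
    _ = Pᵀ * S * P := by rw [h]

theorem Good.conj {A P : MM} (hP : P.det ≠ 0) (h : Good A) : Good (P * A * P⁻¹) := by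
  intro S hS
  refine ⟨fix_conj hP (fun T hT => (h T hT).1) hS, fun hf => ?_⟩
  have hPT : ((P⁻¹)ᵀ).det ≠ 0 := by rw [det_transpose]; exact det_inv_ne hP
  refine fix_conj (A := Aᵀ) hPT (fun T hT => fun ht => (h T hT).2 (by rwa [transpose_transpose] at ht)) hS ?_
  have e : ((P⁻¹)ᵀ)⁻¹ = Pᵀ := by
    rw [← transpose_nonsing_inv, nonsing_inv_nonsing_inv P (det_unit hP)]
  rw [e]
  simpa [Matrix.transpose_mul, Matrix.mul_assoc] using hf

theorem dgi_one : dgi (1 : MM) = 1 := by simp [dgi, fromBlocks_one]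

/-- an element of the symplectic group as a group element -/
def mk' (M : Matrix (ι ⊕ ι) (ι ⊕ ι) F) (h : M ∈ Matrix.symplecticGroup ι F) :
    Matrix.symplecticGroup ι F := ⟨M, h⟩

/-- `low C * dg A` is conjugate to `dg A` -/
theorem exists_conj_low [Finite F] {A C : MM} (hA : A.det ≠ 0) (hG : Good A) (hC : Cᵀ = C) :
    ∃ h : SP, ((h : Matrix (ι ⊕ ι) (ι ⊕ ι) F)) * dgi A = lowi C * dgi A * h := by
  have hu := det_unit hA
  have hu' : IsUnit (Aᵀ).det := by rwa [det_transpose]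
  let f : {S : MM // Sᵀ = S} → {S : MM // Sᵀ = S} := fun S =>
    ⟨S.1 - (A⁻¹)ᵀ * S.1 * A⁻¹, by
      simp [Matrix.transpose_mul, transpose_nonsing_inv, S.2, Matrix.mul_assoc]⟩
  have hf : Function.Injective f := by
    intro S T h
    have h1 : S.1 - (A⁻¹)ᵀ * S.1 * A⁻¹ = T.1 - (A⁻¹)ᵀ * T.1 * A⁻¹ := congrArg Subtype.val h
    set D := S.1 - T.1 with hD
    have h2 : D = (A⁻¹)ᵀ * D * A⁻¹ := by
      rw [hD, Matrix.mul_sub, Matrix.sub_mul]
      exact sub_eq_sub_iff_sub_eq_sub.1 h1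
    have h3 : Aᵀ * D * A = D := by
      conv_lhs => rw [h2]
      rw [transpose_nonsing_inv]
      simp [Matrix.mul_assoc, nonsing_inv_mul A hu, mul_nonsing_inv_cancel_left _ _ hu']
    have hDs : Dᵀ = D := by simp [hD, S.2, T.2]
    exact Subtype.ext (sub_eq_zero.1 ((hG D hDs).1 h3))
  obtain ⟨⟨S, hS⟩, hSf⟩ := Finite.injective_iff_surjective.1 hf ⟨C, hC⟩
  have hSC : C = S - (A⁻¹)ᵀ * S * A⁻¹ := (congrArg Subtype.val hSf).symm
  refine ⟨mk' (lowi S) (lowi_mem hS), ?_⟩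
  show lowi S * dgi A = lowi C * dgi A * lowi S
  simp [lowi, dgi, fromBlocks_multiply]
  rw [hSC, Matrix.sub_mul, Matrix.mul_assoc ((A⁻¹)ᵀ * S), nonsing_inv_mul A hu, Matrix.mul_one,
    sub_add_cancel]

theorem J_mul_lowi (S : MM) : J ι F * lowi S = upi (-S) * J ι F := by
  simp [lowi, upi, J, fromBlocks_multiply]

theorem J_mul_dgi {A : MM} (hA : A.det ≠ 0) : J ι F * dgi A = dgi (A⁻¹)ᵀ * J ι F := by
  have h : (((A⁻¹)ᵀ)⁻¹)ᵀ = A := by
    rw [← transpose_nonsing_inv, transpose_transpose, nonsing_inv_nonsing_inv A (det_unit hA)]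
  simp [dgi, J, fromBlocks_multiply, h]

/-- `dg A * up T` is conjugate to `dg A` -/
theorem exists_conj_up [Finite F] {A T : MM} (hA : A.det ≠ 0) (hG : Good A) (hT : Tᵀ = T) :
    ∃ h : SP, ((h : Matrix (ι ⊕ ι) (ι ⊕ ι) F)) * dgi A = dgi A * upi T * h := by
  set B := (A⁻¹)ᵀ with hB
  have hu := det_unit hA
  have hBd : B.det ≠ 0 := by rw [hB, det_transpose]; exact det_inv_ne hA
  set U : MM := A * T * Aᵀ with hU
  have hUs : Uᵀ = U := by simp [hU, Matrix.transpose_mul, hT, Matrix.mul_assoc]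
  have h1 : upi U * dgi A = dgi A * upi T := by
    simp [upi, dgi, fromBlocks_multiply, hU, Matrix.mul_assoc]
    rw [← transpose_mul, nonsing_inv_mul A hu, transpose_one, Matrix.mul_one]
  obtain ⟨h, hh⟩ := exists_conj_low (C := -U) hBd (hG.inv hA).transpose (by simp [hUs])
  set j : SP := SymplecticGroup.symJ ι F with hj
  refine ⟨j * h * j, ?_⟩
  have hc : ((j : SP) : Matrix (ι ⊕ ι) (ι ⊕ ι) F) = J ι F := rfl
  simp only [Submonoid.coe_mul, hc]
  have hJB : J ι F * dgi B = dgi A * J ι F := by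
    rw [J_mul_dgi hBd, hB, ← transpose_nonsing_inv, transpose_transpose,
      nonsing_inv_nonsing_inv A hu]
  have hJA : J ι F * dgi A = dgi B * J ι F := J_mul_dgi hA
  calc J ι F * (h : Matrix (ι ⊕ ι) (ι ⊕ ι) F) * J ι F * dgi A
      = J ι F * ((h : Matrix (ι ⊕ ι) (ι ⊕ ι) F) * dgi B) * J ι F := by
        simp only [Matrix.mul_assoc, hJA]
    _ = J ι F * (lowi (-U) * dgi B * h) * J ι F := by rw [hh]
    _ = J ι F * lowi (-U) * dgi B * h * J ι F := by simp only [Matrix.mul_assoc]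
    _ = upi U * (J ι F * dgi B) * h * J ι F := by
        rw [J_mul_lowi, neg_neg]; simp only [Matrix.mul_assoc]
    _ = upi U * dgi A * (J ι F * h * J ι F) := by rw [hJB]; simp only [Matrix.mul_assoc]
    _ = _ := by rw [h1]

theorem exists_decomp_i {g : Matrix (ι ⊕ ι) (ι ⊕ ι) F} (hg : g ∈ SP)
    (hM : (g.toBlocks₁₁).det ≠ 0) :
    ∃ C T : MM, Cᵀ = C ∧ Tᵀ = T ∧ g = lowi C * dgi g.toBlocks₁₁ * upi T := by
  have hg' := SymplecticGroup.transpose_mem hg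
  obtain ⟨M, N, Q, D, rfl⟩ : ∃ M N Q D : MM, g = fromBlocks M N Q D :=
    ⟨_, _, _, _, (fromBlocks_toBlocks g).symm⟩
  simp only [toBlocks_fromBlocks₁₁] at hM ⊢
  obtain ⟨h1, -, h3⟩ := SymplecticGroup.fromBlocks_mem_iff.1 hg
  rw [fromBlocks_transpose] at hg'
  obtain ⟨h2, -, -⟩ := SymplecticGroup.fromBlocks_mem_iff.1 hg'
  simp only [transpose_transpose] at h2
  have hu := det_unit hM
  have hu' : IsUnit (Mᵀ).det := by rwa [det_transpose]
  have hQ : (M⁻¹)ᵀ * Qᵀ = Q * M⁻¹ := by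
    calc (M⁻¹)ᵀ * Qᵀ = (M⁻¹)ᵀ * (Qᵀ * M) * M⁻¹ := by
          simp [Matrix.mul_assoc, mul_nonsing_inv M hu]
      _ = Q * M⁻¹ := by
          rw [← h1, transpose_nonsing_inv, ← Matrix.mul_assoc, nonsing_inv_mul _ hu',
            Matrix.one_mul]
  refine ⟨Q * M⁻¹, M⁻¹ * N, ?_, ?_, ?_⟩
  · rw [transpose_mul, hQ]
  · rw [transpose_mul]
    calc Nᵀ * (M⁻¹)ᵀ = M⁻¹ * (M * Nᵀ) * (M⁻¹)ᵀ := by
          simp [← Matrix.mul_assoc, nonsing_inv_mul M hu]
      _ = M⁻¹ * N := by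
          rw [h2, transpose_nonsing_inv, Matrix.mul_assoc, Matrix.mul_assoc N,
            mul_nonsing_inv _ hu', Matrix.mul_one]
  · have hD : D = Q * (M⁻¹ * N) + (M⁻¹)ᵀ := by
      calc D = (M⁻¹)ᵀ * (Mᵀ * D) := by
            rw [transpose_nonsing_inv, nonsing_inv_mul_cancel_left _ _ hu']
        _ = (M⁻¹)ᵀ * (1 + Qᵀ * N) := by rw [← h3, sub_add_cancel]
        _ = Q * (M⁻¹ * N) + (M⁻¹)ᵀ := by
            rw [Matrix.mul_add, Matrix.mul_one, ← Matrix.mul_assoc, hQ, Matrix.mul_assoc, add_comm]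
    simp [lowi, upi, dgi, fromBlocks_multiply, Matrix.mul_assoc, nonsing_inv_mul M hu,
      mul_nonsing_inv_cancel_left _ _ hu]
    exact hD

theorem comm_identity {G : Type*} [Group G] {a b x h k p : G} (ha : h * x = a * h)
    (hb : k * (p * x⁻¹ * p⁻¹) = b * k) : ∃ u v : G, a * b = u * v * u⁻¹ * v⁻¹ := by
  refine ⟨h * x * h⁻¹, k * p * h⁻¹, ?_⟩
  rw [eq_mul_inv_of_mul_eq ha.symm, eq_mul_inv_of_mul_eq hb.symm]
  group

/-- the main matrix criterion -/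
theorem commutator_of_block [Finite F] (g : SP) {A P : MM} (hA : A.det ≠ 0) (hP : P.det ≠ 0)
    (hG : Good A) (hM : (g : Matrix (ι ⊕ ι) (ι ⊕ ι) F).toBlocks₁₁ = A * (P * A⁻¹ * P⁻¹)) :
    ∃ u v : SP, g = u * v * u⁻¹ * v⁻¹ := by
  set A₂ := P * A⁻¹ * P⁻¹ with hA₂
  have hA₂d : A₂.det ≠ 0 := by
    rw [hA₂, det_mul, det_mul]
    exact mul_ne_zero (mul_ne_zero hP (det_inv_ne hA)) (det_inv_ne hP)
  have hG₂ : Good A₂ := (hG.inv hA).conj hP
  obtain ⟨C, T, hC, hT, hgd⟩ := exists_decomp_i g.2 (by rw [hM, det_mul]; exact mul_ne_zero hA hA₂d)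
  obtain ⟨h, hh⟩ := exists_conj_low hA hG hC
  obtain ⟨k, hk⟩ := exists_conj_up hA₂d hG₂ hT
  set a : SP := ⟨lowi C * dgi A, mul_mem (lowi_mem hC) (dgi_mem hA)⟩
  set b : SP := ⟨dgi A₂ * upi T, mul_mem (dgi_mem hA₂d) (upi_mem hT)⟩
  set x : SP := ⟨dgi A, dgi_mem hA⟩
  set p : SP := ⟨dgi P, dgi_mem hP⟩
  have hxi : ∀ (Q : MM) (hQ : Q.det ≠ 0),
      (⟨dgi Q, dgi_mem hQ⟩ : SP)⁻¹ = ⟨dgi Q⁻¹, dgi_mem (det_inv_ne hQ)⟩ := by
    intro Q hQ
    refine inv_eq_of_mul_eq_one_right (Subtype.ext ?_)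
    show dgi Q * dgi Q⁻¹ = 1
    rw [dgi_mul, mul_nonsing_inv Q (det_unit hQ), dgi_one]
  obtain ⟨u, v, huv⟩ := comm_identity (a := a) (b := b) (x := x) (h := h) (k := k) (p := p)
    (Subtype.ext (by simpa [x, a] using hh)) (Subtype.ext (by
      rw [hxi A hA, hxi P hP]
      show (k : Matrix (ι ⊕ ι) (ι ⊕ ι) F) * (dgi P * dgi A⁻¹ * dgi P⁻¹) = dgi A₂ * upi T * k
      rw [dgi_mul, dgi_mul]
      exact hk))
  refine ⟨u, v, ?_⟩
  rw [← huv]
  refine Subtype.ext ?_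
  show (g : Matrix (ι ⊕ ι) (ι ⊕ ι) F) = lowi C * dgi A * (dgi A₂ * upi T)
  rw [hgd, hM, ← dgi_mul]
  simp only [Matrix.mul_assoc]

end CfsgLib.OreSp
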