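import Cfsg.Agent.Lib.OreSp.TModel

/-!
Every isometry of an alternating space splits orthogonally into a part which is lower times upper
unipotent and parts which are minus an indecomposable odd unipotent isometry.
-/

set_option autoImplicit false

namespace CfsgLib.OreSp

open Module Polynomial

variable {F : Type*} [Field F] {V : Type*} [AddCommGroup V] [Module F V] [FiniteDimensional F V]
variable {B : LinearMap.BilinForm F V}

theorem adj_aeval {T Ti : Module.End F V} (h : ∀ x y, B (T x) y = B x (Ti y)) (p : F[X]) :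
    ∀ x y, B (aeval T p x) y = B x (aeval Ti p y) := by
  induction p using Polynomial.induction_on with
  | C a => intro x y; simp [Module.algebraMap_end_apply]
  | add p q hp hq => intro x y; simp [hp, hq]
  | monomial n a ih =>
    intro x y
    have e1 : aeval T (C a * X ^ (n + 1)) = aeval T (C a * X ^ n) * T := by
      rw [pow_succ, ← mul_assoc, map_mul, aeval_X]
    have e2 : aeval Ti (C a * X ^ (n + 1)) = Ti * aeval Ti (C a * X ^ n) := by
      rw [pow_succ, ← mul_assoc, mul_comm _ X, map_mul, aeval_X]
    rw [e1, e2, Module.End.mul_apply, Module.End.mul_apply, ih, h]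

theorem aeval_reverse {T Ti : Module.End F V} (h : T * Ti = 1) (h' : Ti * T = 1) (p : F[X]) :
    aeval T p.reverse = T ^ p.natDegree * aeval Ti p := by
  have hc : Commute T Ti := h.trans h'.symm
  have hk : ∀ j, j ≤ p.natDegree → T ^ p.natDegree * Ti ^ j = T ^ (p.natDegree - j) := by
    intro j hj
    conv_lhs => rw [show p.natDegree = (p.natDegree - j) + j by omega, pow_add, mul_assoc,
      ← hc.mul_pow, h, one_pow, mul_one]
  rw [aeval_eq_sum_range' (n := p.natDegree + 1) (by
      have := Polynomial.reverse_natDegree_le p; omega),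
    aeval_eq_sum_range, Finset.mul_sum, ← Finset.sum_range_reflect]
  refine Finset.sum_congr rfl fun j hj => ?_
  rw [Finset.mem_range] at hj
  rw [Polynomial.coeff_reverse, Polynomial.revAt_le (by omega), mul_smul_comm, hk j (by omega),
    show p.natDegree + 1 - 1 - j = p.natDegree - j by omega,
    show p.natDegree - (p.natDegree - j) = j by omega]

theorem commute_aeval {T Ti : Module.End F V} (h : Commute T Ti) (p q : F[X]) :
    Commute (aeval T p) (aeval Ti q) := by
  induction p using Polynomial.induction_on' with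
  | add p r hp hr => rw [map_add]; exact hp.add_left hr
  | monomial n a =>
    induction q using Polynomial.induction_on' with
    | add q r hq hr => rw [map_add]; exact hq.add_right hr
    | monomial k b =>
      rw [aeval_monomial, aeval_monomial]
      exact (Algebra.commutes a _ |> fun hh => (show Commute (algebraMap F (Module.End F V) a) _ from hh)).mul_left
        ((Algebra.commute_algebraMap_right b (T ^ n)).mul_right (h.pow_pow n k))

/-- the cyclic subspace -/
noncomputable def cyc (T : Module.End F V) (z : V) : Submodule F V :=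
  LinearMap.range ((LinearMap.applyₗ z).comp (aeval T : F[X] →ₐ[F] Module.End F V).toLinearMap)

theorem mem_cyc {T : Module.End F V} {z x : V} : x ∈ cyc T z ↔ ∃ p : F[X], aeval T p z = x := Iff.rfl

theorem self_mem_cyc (T : Module.End F V) (z : V) : z ∈ cyc T z := ⟨1, by simp⟩

theorem cyc_invariant {T : Module.End F V} {z x : V} (h : x ∈ cyc T z) (p : F[X]) :
    aeval T p x ∈ cyc T z := by
  obtain ⟨q, rfl⟩ := h
  exact ⟨p * q, by simp⟩

theorem cyc_le {T : Module.End F V} {U : Submodule F V} (hU : ∀ x ∈ U, T x ∈ U) {z : V}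
    (hz : z ∈ U) : cyc T z ≤ U := by
  rintro _ ⟨p, rfl⟩
  show aeval T p z ∈ U
  induction p using Polynomial.induction_on with
  | C a => simpa [Module.algebraMap_end_apply] using U.smul_mem a hz
  | add p q hp hq => simpa using add_mem hp hq
  | monomial n a ih =>
    rw [pow_succ', ← mul_assoc, mul_comm (C a) X, mul_assoc, map_mul, aeval_X, Module.End.mul_apply]
    exact hU _ ih

section Indec

variable (B) in
/-- no proper invariant non-degenerate subspace -/
def Indec (g : V ≃ₗ[F] V) : Prop :=
  ∀ U : Submodule F V, (∀ x ∈ U, g x ∈ U) → Nd B U → U ≠ ⊥ → U = ⊤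

theorem exists_pairing (hN : B.Nondegenerate) {x : V} (hx : x ≠ 0) : ∃ y, B x y = 1 := by
  obtain ⟨y, hy⟩ : ∃ y, B x y ≠ 0 := by
    by_contra h
    simp only [not_exists, not_not] at h
    exact hx (hN.1 x h)
  exact ⟨(B x y)⁻¹ • y, by simp [hy]⟩

theorem pl_of_cyclic (hA : B.IsAlt) (hN : B.Nondegenerate) {g : V ≃ₗ[F] V} (hg : Isom B g) {z : V}
    (hz : cyc (g : V →ₗ[F] V) z = ⊤) : PL B g ⊤ := by
  set T : Module.End F V := (g : V →ₗ[F] V)
  set Ti : Module.End F V := (g.symm : V →ₗ[F] V)
  have hT : ∀ x y, B (T x) y = B x (Ti y) := fun x y => by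
    conv_lhs => rw [show y = g (g.symm y) from (g.apply_symm_apply y).symm]
    exact hg x _
  have hT' : ∀ x y, B (Ti x) y = B x (T y) := fun x y => by
    conv_rhs => rw [show x = g (g.symm x) from (g.apply_symm_apply x).symm]
    exact (hg _ y).symm
  set S : Module.End F V := T + Ti with hS
  have hSadj : ∀ x y, B (S x) y = B x (S y) := by
    intro x y; simp [hS, hT, hT']; ring
  have hSpow : ∀ (n : ℕ) (x y : V), B ((S ^ n) x) y = B x ((S ^ n) y) := by
    intro n
    induction n with
    | zero => intro x y; simp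
    | succ n ih =>
      intro x y
      conv_lhs => rw [pow_succ]
      conv_rhs => rw [pow_succ']
      rw [Module.End.mul_apply, Module.End.mul_apply, ih, hSadj]
  have hself : ∀ (n : ℕ) (x : V), B ((S ^ n) x) x = 0 := by
    intro n x
    rcases Nat.even_or_odd n with ⟨j, rfl⟩ | ⟨j, rfl⟩
    · rw [pow_add, Module.End.mul_apply, hSpow]; exact hA _
    · have h1 : ∀ y, B (S y) y = 0 := by
        intro y
        simp only [hS, LinearMap.add_apply, map_add, hT' y y, alt_swap hA y (T y)]
        ring
      rw [show 2 * j + 1 = j + (1 + j) by omega, pow_add, Module.End.mul_apply, hSpow,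
        pow_add, pow_one, Module.End.mul_apply]
      exact h1 _
  have hpol : ∀ (p : F[X]) (x : V), B (aeval S p x) x = 0 := by
    intro p x
    induction p using Polynomial.induction_on' with
    | add p q hp hq => simp [hp, hq]
    | monomial n a => simp [aeval_monomial, Module.algebraMap_end_apply, hself]
  set W := cyc S z with hW
  have hperp : Perp B W W := by
    rintro _ ⟨p, rfl⟩ _ ⟨q, rfl⟩
    show B (aeval S p z) (aeval S q z) = 0
    rw [← adj_aeval hSadj, ← Module.End.mul_apply, ← map_mul]
    exact hpol _ _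
  have hSW : ∀ w ∈ W, S w ∈ W := fun w hw => by
    have := cyc_invariant hw (X : F[X]); simpa using this
  have hsup : W ⊔ W.map T = ⊤ := by
    refine top_le_iff.1 (hz ▸ cyc_le ?_ (Submodule.mem_sup_left (self_mem_cyc S z)))
    intro x hx
    obtain ⟨a, ha, _, ⟨b, hb, rfl⟩, rfl⟩ := Submodule.mem_sup.1 hx
    have e : T (a + T b) = (-b) + T (a + S b) := by
      simp only [map_add, hS, LinearMap.add_apply]
      have : T (Ti b) = b := g.apply_symm_apply b
      rw [this]; abel
    rw [e]
    exact Submodule.add_mem_sup (neg_mem hb) ⟨_, add_mem ha (hSW b hb), rfl⟩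
  have h1 := Submodule.finrank_sup_add_finrank_inf_eq W (W.map T)
  rw [hsup, finrank_top, show finrank F (W.map T) = finrank F W from g.finrank_map_eq W] at h1
  have hle : W ≤ B.orthogonal W := fun y hy x hx => hperp x hx y hy
  have h2 := LinearMap.BilinForm.finrank_orthogonal hN W
  have h3 := Submodule.finrank_mono hle
  have h4 := Submodule.finrank_le W
  have horth : W = B.orthogonal W := Submodule.eq_of_le_of_finrank_eq hle (by omega)
  have hinf : W ⊓ W.map T = ⊥ := Submodule.finrank_eq_zero.1 (by omega)
  refine ⟨W, ⟨le_top, hperp, by rw [inf_top_eq, ← horth]⟩, ?_, ?_⟩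
  · intro w hw w' hw'
    have h := hperp w hw _ (hSW w' hw')
    simp only [hS, LinearMap.add_apply, map_add, ← hT] at h
    rw [alt_swap hA (T w) w'] at h
    show B w (T w') = B w' (T w)
    linear_combination h
  · intro w hw hgw
    have h : g w ∈ W ⊓ W.map T := ⟨hgw, ⟨w, hw, rfl⟩⟩
    rw [hinf, Submodule.mem_bot] at h
    have hw0 : w = 0 := g.injective (by rw [h, map_zero])
    rw [hw0, map_zero]

variable (B) in
/-- the shape of the summands that are not lower times upper unipotent -/
def MinusType (g : V ≃ₗ[F] V) : Prop :=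
  (2 : F) ≠ 0 ∧ ∃ β : Bi B, Odd β.e ∧ ∀ x, g x = -(β.g x)

theorem indec_cases (hA : B.IsAlt) (hN : B.Nondegenerate) [Nontrivial V] {g : V ≃ₗ[F] V}
    (hg : Isom B g) (hI : Indec B g) : PL B g ⊤ ∨ MinusType B g := by
  classical
  set T : Module.End F V := (g : V →ₗ[F] V) with hTdef
  set Ti : Module.End F V := (g.symm : V →ₗ[F] V) with hTidef
  have hTTi : T * Ti = 1 := LinearMap.ext fun x => g.apply_symm_apply x
  have hTiT : Ti * T = 1 := LinearMap.ext fun x => g.symm_apply_apply x
  have hT : ∀ x y, B (T x) y = B x (Ti y) := fun x y => by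
    conv_lhs => rw [show y = g (g.symm y) from (g.apply_symm_apply y).symm]
    exact hg x _
  have hT' : ∀ x y, B (Ti x) y = B x (T y) := fun x y => by
    conv_rhs => rw [show x = g (g.symm x) from (g.apply_symm_apply x).symm]
    exact (hg _ y).symm
  have cTTi : Commute T Ti := hTTi.trans hTiT.symm
  have hcomm : ∀ p q : F[X], ∀ x, aeval T p (aeval Ti q x) = aeval Ti q (aeval T p x) := by
    intro p q x
    rw [← Module.End.mul_apply, ← Module.End.mul_apply]
    refine LinearMap.congr_fun ?_ x
    exact (commute_aeval cTTi p q).eq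
  have hcycTi : ∀ (z x : V), x ∈ cyc T z → ∀ p : F[X], aeval Ti p x ∈ cyc T z := by
    intro z x hx p
    have hinv : ∀ y ∈ cyc T z, Ti y ∈ cyc T z := fun y hy => by
      have := inv_mem (a := g) (U := cyc T z) (fun v hv => by
        have := cyc_invariant hv (X : F[X]); simpa [T] using this) hy
      exact this
    exact (cyc_le hinv hx : cyc Ti x ≤ cyc T z) ⟨p, rfl⟩
  set μ := minpoly F T with hμdef
  have hint : IsIntegral F T := Algebra.IsIntegral.isIntegral T
  have hμ0 : μ ≠ 0 := minpoly.ne_zero hint
  obtain ⟨π, hπ, -, hπμ⟩ : ∃ π : F[X], Irreducible π ∧ π.Monic ∧ π ∣ μ := by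
    have hnu : ¬ IsUnit μ := minpoly.not_isUnit F T
    obtain ⟨π, hm, hi, hd⟩ := Polynomial.exists_monic_irreducible_factor μ hnu
    exact ⟨π, hi, hm, hd⟩
  obtain ⟨e, Q, hQ, hμeq⟩ := WfDvdMonoid.max_power_factor hμ0 hπ
  have he : 0 < e := by
    rcases Nat.eq_zero_or_pos e with h | h
    · exfalso; rw [h, pow_zero, one_mul] at hμeq; exact hQ (hμeq ▸ hπμ)
    · exact h
  have hco : IsCoprime (π ^ e) Q := (hπ.coprime_iff_not_dvd.2 hQ).pow_left
  obtain ⟨v, hv, hv1⟩ : ∃ v, aeval T (π ^ e) v = 0 ∧ aeval T (π ^ (e - 1)) v ≠ 0 := by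
    by_contra hne
    simp only [not_exists, not_and, not_not] at hne
    have h0 : aeval T (π ^ (e - 1) * Q) = 0 := by
      refine LinearMap.ext fun x => ?_
      rw [map_mul, Module.End.mul_apply]
      refine hne _ ?_
      rw [← Module.End.mul_apply, ← map_mul, ← hμeq, minpoly.aeval]; rfl
    have hd := minpoly.dvd F T h0
    rw [← hμdef, hμeq] at hd
    have hQ0 : Q ≠ 0 := fun h => hμ0 (by rw [hμeq, h, mul_zero])
    have h1 := (mul_dvd_mul_iff_right hQ0).1 hd
    have h2 := (pow_dvd_pow_iff hπ.ne_zero hπ.not_isUnit).1 h1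
    omega
  -- the gcd lemma
  have hgcd : ∀ z, aeval T (π ^ e) z = 0 → ∀ p : F[X], aeval T p z ≠ 0 →
      ∃ r : F[X], aeval T r (aeval T p z) = aeval T (π ^ (e - 1)) z := by
    intro z hz p hp
    have hp0 : p ≠ 0 := fun h => hp (by simp [h])
    obtain ⟨j, p', hp', hpeq⟩ := WfDvdMonoid.max_power_factor hp0 hπ
    have hj : j < e := by
      by_contra hj
      apply hp
      rw [hpeq, show j = (j - e) + e by omega, pow_add, mul_right_comm, map_mul, Module.End.mul_apply,
        hz, map_zero]
    obtain ⟨a, b, hab⟩ := hπ.coprime_iff_not_dvd.2 hp'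
    refine ⟨π ^ (e - 1 - j) * b, ?_⟩
    rw [← Module.End.mul_apply, ← map_mul]
    have : π ^ (e - 1 - j) * b * p = π ^ (e - 1) - a * π ^ e := by
      rw [hpeq, show e = (e - 1) + 1 by omega, pow_succ, show e - 1 + 1 - 1 = e - 1 by omega]
      have h3 : π ^ (e - 1 - j) * π ^ j = π ^ (e - 1) := by rw [← pow_add]; congr 1; omega
      linear_combination (π ^ (e - 1)) * hab + (b * p') * h3
    rw [this, map_sub, LinearMap.sub_apply, map_mul, Module.End.mul_apply, hz, map_zero, sub_zero]
  by_cases hdis : ∀ x, aeval T (π ^ e) x = 0 → aeval Ti (π ^ e) x = 0 → x = 0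
  · -- dual primary parts
    left
    obtain ⟨y₀, hy₀⟩ := exists_pairing hN hv1
    obtain ⟨a, b, hab⟩ := hco
    have hyK' : aeval Ti (π ^ e) (aeval Ti (b * Q) y₀) = 0 := by
      rw [← Module.End.mul_apply, ← map_mul, show π ^ e * (b * Q) = b * μ by rw [hμeq]; ring,
        map_mul, Module.End.mul_apply]
      have h : aeval Ti μ = 0 := LinearMap.ext fun w => hN.2 _ fun x => by
        rw [← adj_aeval hT, minpoly.aeval]; simp
      rw [h]; simp
    have hy1' : B (aeval T (π ^ (e - 1)) v) (aeval Ti (b * Q) y₀) = 1 := by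
      have h : y₀ = aeval Ti (a * π ^ e) y₀ + aeval Ti (b * Q) y₀ := by
        rw [← LinearMap.add_apply, ← map_add, hab, map_one]; rfl
      conv at hy₀ => rw [h, map_add, ← adj_aeval hT]
      rwa [← Module.End.mul_apply, ← map_mul,
        show a * π ^ e * π ^ (e - 1) = π ^ (e - 1) * a * π ^ e by ring, map_mul,
        Module.End.mul_apply, hv, map_zero, map_zero, LinearMap.zero_apply, zero_add] at hy₀
    obtain ⟨y, hyK, hy1⟩ : ∃ y, aeval Ti (π ^ e) y = 0 ∧ B (aeval T (π ^ (e - 1)) v) y = 1 :=
      ⟨_, hyK', hy1'⟩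
    set U := cyc T (v + y) with hU
    have hP : ∀ x ∈ cyc T y, aeval Ti (π ^ e) x = 0 := by
      rintro _ ⟨p, rfl⟩
      show aeval Ti (π ^ e) (aeval T p y) = 0
      rw [← hcomm, hyK, map_zero]
    have hyU : y ∈ U := by
      let P : cyc T y →ₗ[F] cyc T y :=
        ((aeval T (π ^ e)).comp (cyc T y).subtype).codRestrict _ fun x => cyc_invariant x.2 _
      have hinj : Function.Injective P := by
        rw [injective_iff_map_eq_zero]
        intro x hx
        exact Subtype.ext (hdis _ (congrArg Subtype.val hx) (hP _ x.2))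
      obtain ⟨⟨r, hr⟩, hPr⟩ := LinearMap.injective_iff_surjective.1 hinj ⟨y, self_mem_cyc T y⟩
      obtain ⟨p, rfl⟩ := hr
      refine ⟨p * π ^ e, ?_⟩
      show aeval T (p * π ^ e) (v + y) = y
      rw [map_add, map_mul, Module.End.mul_apply, hv, map_zero, zero_add]
      have h := congrArg Subtype.val hPr
      simp only [P, LinearMap.codRestrict_apply, LinearMap.comp_apply, Submodule.subtype_apply] at h
      conv_rhs => rw [← h]
      show aeval T p (aeval T (π ^ e) y) = aeval T (π ^ e) (aeval T p y)
      rw [← Module.End.mul_apply, ← Module.End.mul_apply, ← map_mul, ← map_mul, mul_comm]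
    have hvU : v ∈ U := by
      have := sub_mem (self_mem_cyc T (v + y)) hyU
      simpa [hU] using this
    have hinvU : ∀ x ∈ U, g x ∈ U := fun x hx => by
      have := cyc_invariant hx (X : F[X]); simpa [T] using this
    -- the first primary part is isotropic
    have hiso : ∀ x x', aeval T (π ^ e) x = 0 → aeval T (π ^ e) x' = 0 → B x x' = 0 := by
      intro x x' hx hx'
      let K := LinearMap.ker (aeval T (π ^ e))
      let P : K →ₗ[F] K :=
        ((aeval Ti (π ^ e)).comp K.subtype).codRestrict _ fun z => by
          show aeval T (π ^ e) (aeval Ti (π ^ e) (z : V)) = 0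
          rw [hcomm, z.2, map_zero]
      have hinj : Function.Injective P := by
        rw [injective_iff_map_eq_zero]
        intro z hz
        exact Subtype.ext (hdis _ z.2 (congrArg Subtype.val hz))
      obtain ⟨z, hz⟩ := LinearMap.injective_iff_surjective.1 hinj ⟨x', hx'⟩
      have h := congrArg Subtype.val hz
      simp only [P, LinearMap.codRestrict_apply, LinearMap.comp_apply, Submodule.subtype_apply] at h
      rw [← h, ← adj_aeval hT, hx, map_zero, LinearMap.zero_apply]
    have hNd : Nd B U := nd_of_forall fun w hw ho => by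
      obtain ⟨p, rfl⟩ := hw
      show aeval T p (v + y) = 0
      have hw' : ∀ x ∈ U, B x (aeval T p (v + y)) = 0 := ho
      have hpy : aeval T p y = 0 := by
        by_cases hpv : aeval Ti p v = 0
        · have h1 : aeval T p.reverse v = 0 := by
            rw [aeval_reverse hTTi hTiT, Module.End.mul_apply, hpv, map_zero]
          have hdvd : π ^ e ∣ p.reverse := by
            by_cases hr0 : p.reverse = 0
            · rw [hr0]; exact dvd_zero _
            obtain ⟨j, r, hr, hreq⟩ := WfDvdMonoid.max_power_factor hr0 hπ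
            rw [hreq]
            rcases Nat.lt_or_ge j e with hj | hj
            · exfalso
              obtain ⟨a', b', hab'⟩ := (hπ.coprime_iff_not_dvd.2 hr).pow_left (m := e)
              apply hv1
              have key : π ^ (e - 1) = π ^ (e - 1 - j) * b' * (π ^ j * r) + π ^ (e - 1) * a' * π ^ e := by
                have h3 : π ^ (e - 1 - j) * π ^ j = π ^ (e - 1) := by rw [← pow_add]; congr 1; omega
                linear_combination (-(π ^ (e - 1))) * hab' - (b' * r) * h3
              rw [key, map_add, LinearMap.add_apply, map_mul _ (π ^ (e - 1) * a'), Module.End.mul_apply, hv,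
                map_zero, add_zero, ← hreq, map_mul, Module.End.mul_apply, h1, map_zero]
            · exact (pow_dvd_pow π hj).trans (dvd_mul_right _ _)
          obtain ⟨r, hr⟩ := hdvd
          have hTd : aeval Ti p = Ti ^ p.natDegree * aeval T p.reverse := by
            rw [aeval_reverse hTTi hTiT, ← mul_assoc, ← cTTi.symm.mul_pow, hTiT, one_pow, one_mul]
          refine hN.2 _ fun x => ?_
          rw [← adj_aeval hT', hTd, hr, mul_comm, map_mul, ← aeval_X (R := F) T]
          rw [aeval_X, Module.End.mul_apply, Module.End.mul_apply]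
          have h2 : ∀ (n : ℕ) (x y : V), B ((Ti ^ n) x) y = B x ((T ^ n) y) := by
            intro n x y
            have := adj_aeval hT' (X ^ n) x y
            simpa using this
          rw [h2, adj_aeval hT, adj_aeval hT]
          have h5 : aeval Ti (π ^ e) ((T ^ p.natDegree) y) = 0 := by
            refine hP _ ?_
            have := cyc_invariant (self_mem_cyc T y) (X ^ p.natDegree : F[X])
            simpa using this
          rw [← Module.End.mul_apply, ← map_mul, mul_comm (π ^ e) r, map_mul, Module.End.mul_apply, h5, map_zero, map_zero]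
        · exfalso
          have hmem : aeval Ti p v ∈ cyc T v := hcycTi v v (self_mem_cyc T v) p
          obtain ⟨p', hp'⟩ := hmem
          have hp'' : aeval T p' v = aeval Ti p v := hp'
          obtain ⟨r, hr⟩ := hgcd v hv p' (by rw [hp'']; exact hpv)
          rw [hp''] at hr
          have h := hw' _ (cyc_invariant hvU r)
          rw [map_add, map_add, hiso _ _ (by rw [← Module.End.mul_apply, ← map_mul, mul_comm, map_mul, Module.End.mul_apply, hv, map_zero])
            (by rw [← Module.End.mul_apply, ← map_mul, mul_comm, map_mul, Module.End.mul_apply, hv, map_zero]),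
            zero_add, ← adj_aeval hT', ← hcomm, hr, hy1] at h
          exact one_ne_zero h
      rw [map_add, hpy, add_zero]
      by_contra hpv
      obtain ⟨r, hr⟩ := hgcd v hv p hpv
      have h := hw' _ (hcycTi (v + y) y hyU r)
      rw [map_add, hpy, add_zero, adj_aeval hT', hr, alt_swap hA, hy1] at h
      exact neg_ne_zero.2 one_ne_zero h
    have hUne : U ≠ ⊥ := fun h => hv1 (by
      rw [h, Submodule.mem_bot] at hvU
      rw [hvU, map_zero])
    exact pl_of_cyclic hA hN hg (hI U hinvU hNd hUne)
  · -- a self-reciprocal factor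
    simp only [not_forall] at hdis
    obtain ⟨x, hx, hx', hx0⟩ := hdis
    have hlast : ∀ (S : Module.End F V) (z : V), aeval S (π ^ e) z = 0 → z ≠ 0 →
        ∃ n, aeval S (π ^ n) z ≠ 0 ∧ aeval S (π ^ (n + 1)) z = 0 := by
      intro S z hz hz0
      have hex : ∃ n, aeval S (π ^ (n + 1)) z = 0 := ⟨e - 1, by rwa [Nat.sub_add_cancel he]⟩
      refine ⟨Nat.find hex, ?_, Nat.find_spec hex⟩
      by_cases h : Nat.find hex = 0
      · rw [h]; simpa using hz0
      · have := Nat.find_min hex (show Nat.find hex - 1 < Nat.find hex by omega)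
        rwa [show Nat.find hex - 1 + 1 = Nat.find hex by omega] at this
    obtain ⟨n₁, hn₁, hn₁'⟩ := hlast T x hx hx0
    obtain ⟨n₂, hn₂, hn₂'⟩ := hlast Ti (aeval T (π ^ n₁) x) (by rw [← hcomm, hx', map_zero]) hn₁
    set x₀ := aeval Ti (π ^ n₂) (aeval T (π ^ n₁) x) with hx₀
    have hx₀T : aeval T π x₀ = 0 := by
      rw [hx₀, hcomm, ← Module.End.mul_apply (aeval T π), ← map_mul, ← pow_succ', hn₁', map_zero]
    have hx₀Ti : aeval Ti π x₀ = 0 := by
      rw [hx₀, ← Module.End.mul_apply (aeval Ti π), ← map_mul, ← pow_succ']; exact hn₂'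
    have hρ : aeval T π.reverse x₀ = 0 := by
      rw [aeval_reverse hTTi hTiT, Module.End.mul_apply, hx₀Ti, map_zero]
    obtain ⟨c, hc, hcπ⟩ : ∃ c : F, c ≠ 0 ∧ π.reverse = C c * π := by
      have hdvd : π ∣ π.reverse := by
        by_contra hnd
        obtain ⟨a, b, hab⟩ := hπ.coprime_iff_not_dvd.2 hnd
        apply hn₂
        show x₀ = 0
        have := congrArg (fun p => aeval T p x₀) hab
        simp [hx₀T, hρ] at this
        exact this.symm
      obtain ⟨r, hr⟩ := hdvd
      have hr0 : π.reverse ≠ 0 := by
        rw [Ne, Polynomial.reverse_eq_zero]; exact hπ.ne_zero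
      have hdeg : r.natDegree = 0 := by
        have h1 := congrArg natDegree hr
        rw [natDegree_mul hπ.ne_zero (fun h => hr0 (by rw [hr, h, mul_zero]))] at h1
        have := Polynomial.reverse_natDegree_le π
        omega
      refine ⟨r.coeff 0, fun h => hr0 ?_, ?_⟩
      · rw [hr, eq_C_of_natDegree_eq_zero hdeg, h, C_0, mul_zero]
      · conv_lhs => rw [hr, eq_C_of_natDegree_eq_zero hdeg, mul_comm]
    have hker : ∀ w, aeval T (π ^ e) w = 0 → aeval Ti (π ^ e) w = 0 := by
      intro w hw
      have h1 : aeval Ti π = Ti ^ π.natDegree * aeval T π.reverse := by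
        rw [aeval_reverse hTTi hTiT, ← mul_assoc, ← cTTi.symm.mul_pow, hTiT, one_pow, one_mul]
      have h2 : Commute (Ti ^ π.natDegree) (aeval T π.reverse) := by
        have := commute_aeval cTTi π.reverse (X ^ π.natDegree)
        rw [map_pow (aeval Ti), aeval_X] at this
        exact this.symm
      rw [map_pow, h1, h2.mul_pow, Module.End.mul_apply]
      have : (aeval T π.reverse ^ e) w = 0 := by
        rw [← map_pow, hcπ, mul_pow, map_mul, Module.End.mul_apply, hw, map_zero]
      rw [this, map_zero]
    have hV1 : LinearMap.ker (aeval T (π ^ e)) = ⊤ := by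
      refine hI _ (fun w hw => ?_) (nd_of_forall fun w hw ho => ?_) ?_
      · show aeval T (π ^ e) (T w) = 0
        conv_lhs => rw [show T w = aeval T (X : F[X]) w by rw [aeval_X], ← Module.End.mul_apply,
          ← map_mul, mul_comm, map_mul, Module.End.mul_apply, LinearMap.mem_ker.1 hw, map_zero]
      · refine hN.2 w fun z => ?_
        obtain ⟨a, b, hab⟩ := hco
        have h : z = aeval T (a * π ^ e) z + aeval T (b * Q) z := by
          rw [← LinearMap.add_apply, ← map_add, hab, map_one]; rfl
        have hbQ : aeval T (b * Q) z ∈ LinearMap.ker (aeval T (π ^ e)) := by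
          rw [LinearMap.mem_ker, ← Module.End.mul_apply, ← map_mul,
            show π ^ e * (b * Q) = b * μ by rw [hμeq]; ring, map_mul, minpoly.aeval, mul_zero]
          rfl
        rw [h, map_add, LinearMap.add_apply, ho _ hbQ, add_zero, adj_aeval hT,
          mul_comm, map_mul, Module.End.mul_apply]
        have : aeval Ti (π ^ e) (aeval Ti a w) = 0 := by
          rw [← Module.End.mul_apply, ← map_mul, mul_comm, map_mul, Module.End.mul_apply,
            hker w hw, map_zero]
        first
          | rw [this, map_zero]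
          | (rw [← Module.End.mul_apply, ← map_mul, mul_comm, map_mul, Module.End.mul_apply] at this
             rw [this, map_zero])
      · intro h
        apply hv1
        have hv0 : v = 0 := by
          have : v ∈ LinearMap.ker (aeval T (π ^ e)) := hv
          rwa [h, Submodule.mem_bot] at this
        rw [hv0, map_zero]
    have hall : ∀ w, aeval T (π ^ e) w = 0 := fun w => by
      have : w ∈ LinearMap.ker (aeval T (π ^ e)) := hV1 ▸ trivial
      exact this
    by_cases hcyc : ∃ z, z ≠ 0 ∧ Nd B (cyc T z)
    · left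
      obtain ⟨z, hz0, hz⟩ := hcyc
      refine pl_of_cyclic hA hN hg (hI _ (fun w hw => by
        have := cyc_invariant hw (X : F[X]); simpa [T] using this) hz ?_)
      intro h
      have := self_mem_cyc T z
      rw [h, Submodule.mem_bot] at this
      exact hz0 this
    simp only [not_exists, not_and] at hcyc
    have hdeg : ∀ (z : V) (i : ℕ), B (aeval T (π ^ (e - 1) * X ^ i) z) z = 0 := by
      intro z i
      by_cases hz : aeval T (π ^ (e - 1)) z = 0
      · rw [mul_comm, map_mul, Module.End.mul_apply, hz, map_zero, map_zero, LinearMap.zero_apply]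
      · have hz0 : z ≠ 0 := fun h => hz (by rw [h, map_zero])
        have hnd := hcyc z hz0
        obtain ⟨w, hw, hwo, hw0⟩ : ∃ w ∈ cyc T z, (∀ q ∈ cyc T z, B q w = 0) ∧ w ≠ 0 := by
          by_contra h
          simp only [not_exists, not_and, not_not] at h
          exact hnd (nd_of_forall fun y hy ho => h y hy ho)
        obtain ⟨p, hp⟩ := hw
        have hp' : aeval T p z = w := hp
        obtain ⟨r, hr⟩ := hgcd z (hall z) p (by rw [hp']; exact hw0)
        rw [hp'] at hr
        rw [mul_comm, map_mul, Module.End.mul_apply, ← hr, adj_aeval hT, adj_aeval hT]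
        exact hA.isRefl _ _ (hwo _ (hcycTi z _ (hcycTi z z (self_mem_cyc T z) _) _))
    have hsa : ∀ i : ℕ, aeval Ti (π ^ (e - 1) * X ^ i) = aeval T (π ^ (e - 1) * X ^ i) := by
      intro i
      refine LinearMap.ext fun w => sub_eq_zero.1 (hN.2 _ fun z => ?_)
      have h := hdeg (z + w) i
      simp only [map_add, LinearMap.add_apply, hdeg z i, hdeg w i] at h
      rw [map_sub, ← adj_aeval hT, alt_swap hA z]
      linear_combination h
    have hkill : aeval T (π ^ (e - 1) * (X ^ 2 - 1)) = 0 := by
      have h0 := hsa 0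
      have h1 := hsa 1
      simp only [pow_zero, mul_one, pow_one] at h0 h1
      rw [map_mul (aeval Ti), h0, map_mul, aeval_X, aeval_X] at h1
      rw [map_mul, map_sub, map_pow _ X, aeval_X, map_one, mul_sub, mul_one, pow_two, ← mul_assoc, ← h1,
        mul_assoc, hTiT, mul_one, sub_self]
    have hdvd2 : π ∣ X ^ 2 - 1 := by
      have hd := minpoly.dvd F T hkill
      rw [← hμdef, hμeq] at hd
      have h1 : π ^ e ∣ π ^ (e - 1) * (X ^ 2 - 1) := (dvd_mul_right _ _).trans hd
      rw [show e = e - 1 + 1 by omega, pow_succ, show e - 1 + 1 - 1 = e - 1 by omega] at h1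
      exact (mul_dvd_mul_iff_left (pow_ne_zero _ hπ.ne_zero)).1 h1
    obtain ⟨l, hl, hlπ⟩ : ∃ l : F, l * l = 1 ∧ ∃ a : F, a ≠ 0 ∧ π = C a * (X - C l) := by
      have hfac : (X ^ 2 - 1 : F[X]) = (X - C 1) * (X - C (-1)) := by
        rw [map_neg, C_1]; ring
      rw [hfac] at hdvd2
      have key : ∀ l : F, l * l = 1 → π ∣ X - C l → ∃ l : F, l * l = 1 ∧ ∃ a : F, a ≠ 0 ∧ π = C a * (X - C l) := by
        intro l hl h
        obtain ⟨w, hw⟩ := (hπ.associated_of_dvd (irreducible_X_sub_C l) h).symm
        obtain ⟨a, ha, haw⟩ := Polynomial.isUnit_iff.1 w.isUnit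
        exact ⟨l, hl, a, ha.ne_zero, by rw [← hw, ← haw, mul_comm]⟩
      rcases hπ.prime.dvd_or_dvd hdvd2 with h | h
      · exact key 1 (by ring) h
      · exact key (-1) (by ring) h
    obtain ⟨a, ha, hπeq⟩ := hlπ
    have hl0 : l ≠ 0 := fun h => by rw [h, zero_mul] at hl; exact zero_ne_one hl
    let g' : V ≃ₗ[F] V := g.trans (LinearEquiv.smulOfNeZero F V l hl0)
    have hg'a : ∀ x, g' x = l • g x := fun x => rfl
    have hN0 : ((g' : V →ₗ[F] V) - 1 : Module.End F V) = aeval T (C l * (X - C l)) := by
      refine LinearMap.ext fun x => ?_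
      simp [hg'a, T, Module.algebraMap_end_apply, smul_sub, smul_smul, hl]
    have hpow : ∀ n : ℕ, ∃ k : F, k ≠ 0 ∧
        ((g' : V →ₗ[F] V) - 1 : Module.End F V) ^ n = k • aeval T (π ^ n) := by
      intro n
      refine ⟨(l / a) ^ n, pow_ne_zero _ (div_ne_zero hl0 ha), ?_⟩
      rw [hN0, ← map_pow, ← map_smul]
      congr 1
      rw [hπeq, smul_eq_C_mul, C_pow, ← mul_pow, ← mul_assoc, ← C_mul, div_mul_cancel₀ _ ha]
    obtain ⟨k, hk0, hk⟩ := hpow (e - 1)
    obtain ⟨u, hu⟩ := exists_pairing hN
      (show ((((g' : V →ₗ[F] V) - 1 : Module.End F V) ^ (e - 1)) v) ≠ 0 by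
        rw [hk, LinearMap.smul_apply]; exact smul_ne_zero hk0 hv1)
    let β : Bi B :=
    { g := g'
      e := e
      v := v
      u := u
      alt := hA
      nd := hN
      isom := fun x y => by
        simp only [hg'a, map_smul, LinearMap.smul_apply, smul_eq_mul, hg x y]
        rw [← mul_assoc, hl, one_mul]
      indec := fun U hU hnd hne => hI U (fun x hx => by
        have := U.smul_mem l (hU x hx)
        simpa [hg'a, smul_smul, hl] using this) hnd hne
      epos := he
      nil := by
        obtain ⟨k', -, hk'⟩ := hpow e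
        rw [hk']
        exact LinearMap.ext fun w => by rw [LinearMap.smul_apply, hall w, smul_zero]; rfl
      deg := fun w => by
        rw [hk, LinearMap.smul_apply, map_smul, LinearMap.smul_apply]
        have := hdeg w 0
        rw [pow_zero, mul_one] at this
        rw [this, smul_zero]
      pair := hu }
    have hparity : Odd e ∨ (2 : F) = 0 := by
      rcases Nat.even_or_odd e with hev | hod
      · right
        have hTiN : β.N' = aeval Ti (C l * (X - C l)) := by
          refine LinearMap.ext fun x => ?_
          have hsymm : g'.symm x = l • g.symm x := by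
            apply g'.injective
            rw [LinearEquiv.apply_symm_apply, hg'a, map_smul, LinearEquiv.apply_symm_apply, smul_smul, hl,
              one_smul]
          show g'.symm x - x = _
          simp [hsymm, Ti, Module.algebraMap_end_apply, smul_sub, smul_smul, hl]
        have h1 : β.N' ^ (e - 1) = β.N ^ (e - 1) := by
          have h0 := hsa 0
          simp only [pow_zero, mul_one] at h0
          show _ = ((g' : V →ₗ[F] V) - 1 : Module.End F V) ^ (e - 1)
          rw [hTiN, hN0, ← map_pow, ← map_pow, mul_pow, ← C_pow]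
          rw [hπeq, mul_pow, ← C_pow, map_mul, aeval_C, map_mul, aeval_C] at h0
          rw [map_mul, aeval_C, map_mul, aeval_C]
          congr 1
          have hne : algebraMap F (Module.End F V) (a⁻¹ ^ (e - 1)) * algebraMap F _ (a ^ (e - 1)) = 1 := by
            rw [← map_mul, ← mul_pow, inv_mul_cancel₀ ha, one_pow, map_one]
          have := congrArg (fun z => algebraMap F (Module.End F V) (a⁻¹ ^ (e - 1)) * z) h0
          simpa only [← mul_assoc, hne, one_mul] using this
        have hev' : Odd (e - 1) := by
          obtain ⟨m, hm⟩ := hev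
          exact ⟨m - 1, by omega⟩
        rw [β.N'_pow, hev'.neg_one_pow, neg_one_smul, show e - 1 = β.e - 1 from rfl, β.Ti_pow_top] at h1
        have h2 := congrArg (fun z => B (z β.v) β.u) h1
        have h3 : B ((β.N ^ (β.e - 1)) β.v) β.u = 1 := β.pair
        simp [h3] at h2
        linear_combination -h2
      · exact Or.inl hod
    by_cases hl1 : l = 1
    · left
      obtain ⟨W, hW, hsym, hfix, -⟩ := β.exists_lagr
      have hgg : ∀ x, β.g x = g x := fun x => by show l • g x = g x; rw [hl1, one_smul]
      exact ⟨W, hW, fun w hw w' hw' => by simpa only [hgg] using hsym w hw w' hw',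
        fun w hw h => by simpa only [hgg] using hfix w hw (by simpa only [hgg] using h)⟩
    · have hlm : l = -1 := (mul_self_eq_one_iff.1 hl).resolve_left hl1
      have h2 : (2 : F) ≠ 0 := fun h => hl1 (by rw [hlm]; linear_combination -h)
      refine Or.inr ⟨h2, β, hparity.resolve_right h2, fun x => ?_⟩
      show g x = -(l • g x)
      rw [hlm, neg_one_smul, neg_neg]

end Indec

end CfsgLib.OreSp
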