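import Cfsg.Agent.Lib.OreSp.Merge

/-!
Every element of a symplectic group over a finite field is a commutator, except in the smallest cases.
-/

set_option autoImplicit false

namespace CfsgLib.OreSp

open Module Matrix

variable {F : Type*} [Field F] {V : Type*} [AddCommGroup V] [Module F V] [FiniteDimensional F V]
variable {B : LinearMap.BilinForm F V}

theorem comOn_top [Fintype F] (hA : B.IsAlt) (hN : B.Nondegenerate) {g : V ≃ₗ[F] V} (hg : Isom B g)
    {m : ℕ} (hm : 1 ≤ m) (hV : finrank F V = 2 * m) (h1 : m = 1 → 4 ≤ Fintype.card F)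
    (h2 : m = 2 → 3 ≤ Fintype.card F) : ComOn B g (⊤ : Submodule F V) := by
  obtain ⟨L, M, hLM, hp, nL, -, gL, -, plL, cM, hT⟩ := exists_dec hA hg ⊤
    (nd_of_forall fun y _ ho => hN.2 y fun x => ho x Submodule.mem_top) (fun _ _ => Submodule.mem_top)
  have hq1 : 1 < Fintype.card F := Fintype.one_lt_card
  have hLtop : M = ⊥ → finrank F L = 2 * m := by
    intro hM
    rw [hM, sup_bot_eq] at hLM
    rw [← hLM, finrank_top, hV]
  have hPL : (∀ k, finrank F L = 2 * k → k ≠ 0 → (Fintype.card F = 3 → 2 ≤ k) ∧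
      (Fintype.card F = 2 → 3 ≤ k)) → ComOn B g (⊤ : Submodule F V) := by
    intro h
    rw [hLM]
    exact (PL.comOn hA hg nL gL plL fun k hk hk0 =>
      exists_good k (by omega) (h k hk hk0).1 (h k hk hk0).2).sup hA cM hp
  by_cases hq : 4 ≤ Fintype.card F
  · exact hPL fun k _ _ => ⟨fun _ => by omega, fun _ => by omega⟩
  by_cases hq2 : Fintype.card F = 2
  · refine hPL fun k hk _ => ?_
    have hM : M = ⊥ := by
      rcases hT with hM | ⟨T, R, -, -, -, -, -, -, -, -, h20⟩
      · exact hM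
      · exfalso
        refine h20 ?_
        have h := Nat.cast_card_eq_zero F
        rw [hq2] at h
        exact_mod_cast h
    have := hLtop hM
    exact ⟨fun h => by omega, fun _ => by omega⟩
  have hq3 : Fintype.card F = 3 := by omega
  by_cases hL2 : finrank F L = 2
  · by_cases hfix : ∀ x ∈ L, g x = x
    · rw [hLM]
      exact (comOn_fixed hfix).sup hA cM hp
    rcases hT with hM | ⟨T, R, hM, pTR, nT, -, gT, -, cR, tw, -⟩
    · exfalso
      have := hLtop hM
      omega
    have hTM : T ≤ M := hM ▸ le_sup_left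
    have hRM : R ≤ M := hM ▸ le_sup_right
    rw [hLM, hM, ← sup_assoc]
    exact (merge hq3 hA hg nL nT (hp.mono le_rfl hTM) gL gT plL tw hL2 hfix).sup hA cR
      ((hp.mono le_rfl hRM).sup_left pTR)
  · exact hPL fun k hk hk0 => ⟨fun _ => by omega, fun h => by omega⟩

theorem jForm_alt {ι : Type*} [Fintype ι] [DecidableEq ι] : (jForm ι F).IsAlt := by
  intro x
  simp [jForm, Matrix.toBilin'_apply', J, Matrix.fromBlocks_mulVec, dotProduct, Fintype.sum_sum_type, Matrix.neg_mulVec,
    mul_comm]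

theorem toIso_injective {ι : Type*} [Fintype ι] [DecidableEq ι] :
    Function.Injective (toIso (ι := ι) (F := F)) := by
  intro G H h
  refine Subtype.ext (Matrix.toLin'.injective (LinearMap.ext fun v => ?_))
  exact LinearEquiv.congr_fun h v

theorem exists_toIso {ι : Type*} [Fintype ι] [DecidableEq ι] {a : (ι ⊕ ι → F) ≃ₗ[F] (ι ⊕ ι → F)}
    (ha : Isom (jForm ι F) a) : ∃ u : Matrix.symplecticGroup ι F, toIso u = a := by
  have hact : ∀ x, LinearMap.toMatrix' a.toLinearMap *ᵥ x = a x := fun x =>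
    LinearMap.toMatrix'_mulVec a.toLinearMap x
  refine ⟨⟨LinearMap.toMatrix' a.toLinearMap, jForm_isom_iff.2 fun x y => by rw [hact, hact, ha]⟩, ?_⟩
  exact LinearEquiv.ext hact

theorem symplectic_commutator [Fintype F] (m : ℕ) (hm : 1 ≤ m) (h1 : m = 1 → 4 ≤ Fintype.card F)
    (h2 : m = 2 → 3 ≤ Fintype.card F) (g : Matrix.symplecticGroup (Fin m) F) :
    ∃ a b : Matrix.symplecticGroup (Fin m) F, g = a * b * a⁻¹ * b⁻¹ := by
  obtain ⟨a, b, ha, hb, -, -, hab⟩ := comOn_top (jForm_alt (ι := Fin m) (F := F)) jForm_nd (toIso_isom g)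
    hm (by rw [Module.finrank_pi, Fintype.card_sum, Fintype.card_fin]; omega) h1 h2
  obtain ⟨u, rfl⟩ := exists_toIso ha
  obtain ⟨v, rfl⟩ := exists_toIso hb
  refine ⟨u, v, toIso_injective (LinearEquiv.ext fun x => ?_)⟩
  rw [hab x Submodule.mem_top]
  simp only [map_mul, map_inv]

end CfsgLib.OreSp
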