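import Cfsg.Agent.Lib.OreSp.Decomp

/-!
Every element of a symplectic group over a finite field is a commutator, except in the smallest cases.
-/

set_option autoImplicit false

namespace CfsgLib.OreSp

open Module Matrix

/-- a transvection-like plane summed with minus the identity of a plane -/
def smallMat (c τ : ZMod 3) : Matrix (Fin 2 ⊕ Fin 2) (Fin 2 ⊕ Fin 2) (ZMod 3) :=
  Matrix.fromBlocks !![0, 0; 0, -1] !![c, 0; 0, 0] !![-c, 0; 0, 0] !![τ, 0; 0, -1]

/-- the two conjugating matrices -/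
def SmallWitness (c τ : ZMod 3) (X Y : Matrix (Fin 2 ⊕ Fin 2) (Fin 2 ⊕ Fin 2) (ZMod 3)) : Prop :=
  Xᵀ * J (Fin 2) (ZMod 3) * X = J (Fin 2) (ZMod 3) ∧ Yᵀ * J (Fin 2) (ZMod 3) * Y = J (Fin 2) (ZMod 3) ∧
    smallMat c τ * (Y * X) = X * Y

instance instDecidableSmallWitness (c τ : ZMod 3) (X Y : Matrix (Fin 2 ⊕ Fin 2) (Fin 2 ⊕ Fin 2) (ZMod 3)) :
    Decidable (SmallWitness c τ X Y) := by unfold SmallWitness; infer_instance

theorem exists_small_witness (c τ : ZMod 3) (hc : c ≠ 0) :
    ∃ X Y, SmallWitness c τ X Y := by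
  have h : (c = 1 ∧ τ = 0) ∨ (c = 1 ∧ τ = 1) ∨ (c = 1 ∧ τ = 2) ∨ (c = 2 ∧ τ = 0) ∨ (c = 2 ∧ τ = 1) ∨
      (c = 2 ∧ τ = 2) := by revert c τ; decide
  rcases h with ⟨rfl, rfl⟩ | ⟨rfl, rfl⟩ | ⟨rfl, rfl⟩ | ⟨rfl, rfl⟩ | ⟨rfl, rfl⟩ | ⟨rfl, rfl⟩
  · exact ⟨Matrix.fromBlocks !![1, 0; 0, 0] !![0, 0; 0, 2] !![1, 0; 0, 1] !![1, 0; 0, 0],
      Matrix.fromBlocks !![0, 0; 0, 1] !![2, 0; 0, 2] !![1, 0; 0, 2] !![2, 0; 0, 2], by decide +kernel⟩
  · exact ⟨Matrix.fromBlocks !![1, 2; 1, 0] !![0, 0; 2, 2] !![0, 0; 1, 0] !![0, 2; 0, 0],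
      Matrix.fromBlocks !![1, 0; 2, 0] !![2, 1; 1, 0] !![0, 2; 0, 2] !![0, 0; 2, 0], by decide +kernel⟩
  · exact ⟨Matrix.fromBlocks !![0, 2; 0, 2] !![0, 0; 2, 0] !![2, 0; 1, 0] !![0, 2; 0, 0],
      Matrix.fromBlocks !![1, 0; 2, 2] !![0, 0; 0, 1] !![2, 0; 0, 0] !![1, 2; 0, 2], by decide +kernel⟩
  · exact ⟨Matrix.fromBlocks !![2, 0; 0, 0] !![2, 0; 0, 2] !![1, 0; 0, 1] !![0, 0; 0, 0],
      Matrix.fromBlocks !![1, 0; 0, 1] !![2, 0; 0, 2] !![0, 0; 0, 2] !![1, 0; 0, 2], by decide +kernel⟩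
  · exact ⟨Matrix.fromBlocks !![1, 1; 2, 0] !![0, 1; 0, 0] !![0, 2; 0, 2] !![0, 0; 2, 0],
      Matrix.fromBlocks !![1, 2; 1, 0] !![1, 1; 0, 2] !![0, 0; 1, 0] !![0, 2; 1, 0], by decide +kernel⟩
  · exact ⟨Matrix.fromBlocks !![0, 2; 0, 1] !![0, 0; 1, 0] !![2, 0; 2, 0] !![0, 2; 0, 0],
      Matrix.fromBlocks !![2, 0; 2, 1] !![0, 0; 0, 1] !![2, 0; 0, 0] !![2, 2; 0, 1], by decide +kernel⟩

theorem zmod3_sq : ∀ x : ZMod 3, x ≠ 0 → x * x = 1 := by decide

variable {F : Type*} [Field F] {V : Type*} [AddCommGroup V] [Module F V] [FiniteDimensional F V]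
variable {B : LinearMap.BilinForm F V}

/-- the data of a minus-type summand -/
def TW (B : LinearMap.BilinForm F V) (g : V ≃ₗ[F] V) (U : Submodule F V) : Prop :=
  ∃ (W : Submodule F V) (z : V), Lagr B U W ∧ (∀ w ∈ W, ∀ w' ∈ W, B w (g w') = B w' (g w)) ∧
    z ∈ W ∧ z ≠ 0 ∧ g z = -z ∧ (∀ w ∈ W, g w ∈ W → w ∈ Submodule.span F {z}) ∧
    Odd (finrank F W) ∧ (finrank F U = 2 → ∀ x ∈ U, g x = -x)

/-- invariance -/
def Inv (g : V ≃ₗ[F] V) (U : Submodule F V) : Prop := ∀ x ∈ U, g x ∈ U

theorem Inv.sup {g : V ≃ₗ[F] V} {U U' : Submodule F V} (h : Inv g U) (h' : Inv g U') :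
    Inv g (U ⊔ U') := by
  intro x hx
  obtain ⟨a, ha, b, hb, rfl⟩ := Submodule.mem_sup.1 hx
  rw [map_add]
  exact Submodule.add_mem_sup (h a ha) (h' b hb)

theorem Perp.mono {U U' X X' : Submodule F V} (h : Perp B U U') (hX : X ≤ U) (hX' : X' ≤ U') :
    Perp B X X' := fun x hx y hy => h x (hX hx) y (hX' hy)

theorem Perp.sup_left {U U' X : Submodule F V} (h : Perp B U X) (h' : Perp B U' X) :
    Perp B (U ⊔ U') X := by
  intro x hx y hy
  obtain ⟨a, ha, b, hb, rfl⟩ := Submodule.mem_sup.1 hx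
  rw [map_add, LinearMap.add_apply, h a ha y hy, h' b hb y hy, add_zero]

theorem Perp.sup_right {U U' X : Submodule F V} (h : Perp B X U) (h' : Perp B X U') :
    Perp B X (U ⊔ U') := by
  intro y hy x hx
  obtain ⟨a, ha, b, hb, rfl⟩ := Submodule.mem_sup.1 hx
  rw [map_add, h y hy a ha, h' y hy b hb, add_zero]

theorem nd_bot : Nd B (⊥ : Submodule F V) := disjoint_bot_left

theorem inv_bot (g : V ≃ₗ[F] V) : Inv g (⊥ : Submodule F V) := fun x hx => by
  rw [(Submodule.mem_bot F).1 hx, map_zero]; exact zero_mem _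

theorem perp_bot (X : Submodule F V) : Perp B (⊥ : Submodule F V) X := fun x hx y _ => by
  rw [(Submodule.mem_bot F).1 hx]; simp

theorem perp_bot' (X : Submodule F V) : Perp B X (⊥ : Submodule F V) := fun x _ y hy => by
  rw [(Submodule.mem_bot F).1 hy]; simp

/-- the decomposition -/
def Dec (B : LinearMap.BilinForm F V) (g : V ≃ₗ[F] V) (U : Submodule F V) : Prop :=
  ∃ L M : Submodule F V, U = L ⊔ M ∧ Perp B L M ∧ Nd B L ∧ Nd B M ∧ Inv g L ∧ Inv g M ∧
    PL B g L ∧ ComOn B g M ∧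
    (M = ⊥ ∨ ∃ T R : Submodule F V, M = T ⊔ R ∧ Perp B T R ∧ Nd B T ∧ Nd B R ∧ Inv g T ∧ Inv g R ∧
      ComOn B g R ∧ TW B g T ∧ (2 : F) ≠ 0)

theorem dec_indec [Finite F] (hA : B.IsAlt) {g : V ≃ₗ[F] V} (hg : Isom B g) {U : Submodule F V}
    (hU : Nd B U) (hgU : Inv g U) (hne : U ≠ ⊥)
    (hI : ∀ X ≤ U, Inv g X → Nd B X → X ≠ ⊥ → X = U) : Dec B g U := by
  classical
  set B₀ : LinearMap.BilinForm F U := B.compl₁₂ U.subtype U.subtype with hB₀
  have hB₀a : ∀ x y : U, B₀ x y = B (x : V) (y : V) := fun x y => rfl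
  have hA₀ : B₀.IsAlt := fun x => hA _
  have hN₀ : B₀.Nondegenerate := by
    have key : ∀ x : U, (∀ y : U, B₀ y x = 0) → x = 0 := fun x h =>
      Subtype.ext (hU.eq_zero x.2 fun y hy => h ⟨y, hy⟩)
    exact ⟨fun x h => key x fun y => hA₀.isRefl x y (h y), key⟩
  have hmap : U.map (g : V →ₗ[F] V) = U :=
    Submodule.eq_of_le_of_finrank_eq (by rintro _ ⟨u, hu, rfl⟩; exact hgU u hu) (g.finrank_map_eq U)
  set g₀ : U ≃ₗ[F] U := g.ofSubmodules U U hmap with hg₀
  have hg₀a : ∀ x : U, ((g₀ x : U) : V) = g (x : V) := fun x => rfl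
  have hgi : Isom B₀ g₀ := fun x y => hg _ _
  haveI : Nontrivial U := Submodule.nontrivial_iff_ne_bot.2 hne
  have hI₀ : Indec B₀ g₀ := by
    intro X hX hXn hXne
    have h : X.map U.subtype = U := by
      refine hI _ (Submodule.map_subtype_le U X) ?_ ?_ ?_
      · rintro _ ⟨x, hx, rfl⟩; exact ⟨g₀ x, hX x hx, rfl⟩
      · refine nd_of_forall ?_
        rintro _ ⟨x, hx, rfl⟩ ho
        rw [hXn.eq_zero hx fun y hy => ho _ ⟨y, hy, rfl⟩]; rfl
      · intro h
        refine hXne (Submodule.map_injective_of_injective U.injective_subtype ?_)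
        rw [h, Submodule.map_bot]
    refine Submodule.map_injective_of_injective U.injective_subtype ?_
    rw [h, Submodule.map_subtype_top]
  have hlag : ∀ W : Submodule F U, Lagr B₀ ⊤ W → Lagr B U (W.map U.subtype) := by
    intro W hW
    refine ⟨Submodule.map_subtype_le U W, ?_, ?_⟩
    · rintro _ ⟨x, hx, rfl⟩ _ ⟨y, hy, rfl⟩; exact hW.2.1 x hx y hy
    · rintro x ⟨ho, hx⟩
      exact ⟨⟨x, hx⟩, hW.2.2 ⟨fun y hy => ho _ ⟨y, hy, rfl⟩, trivial⟩, rfl⟩
  rcases indec_cases hA₀ hN₀ hgi hI₀ with ⟨W, hW, hs, hf⟩ | ⟨h2, β, hodd, hneg⟩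
  · refine ⟨U, ⊥, by rw [sup_bot_eq], perp_bot' _, hU, nd_bot, hgU, inv_bot g, ?_, ComOn.bot g, Or.inl rfl⟩
    refine ⟨W.map U.subtype, hlag W hW, ?_, ?_⟩
    · rintro _ ⟨x, hx, rfl⟩ _ ⟨y, hy, rfl⟩; exact hs x hx y hy
    · rintro _ ⟨x, hx, rfl⟩ ⟨y, hy, he⟩
      have hy' : y = g₀ x := Subtype.ext he
      have h := congrArg Subtype.val (hf x hx (hy' ▸ hy))
      exact h
  · have hcom : ComOn B g U := by
      obtain ⟨a, b, ha, hb, -, -, hab⟩ := β.comOn_neg hodd h2 g₀ hneg
      have hg0 : g₀ = a * b * a⁻¹ * b⁻¹ := LinearEquiv.ext fun x => hab x trivial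
      have := comOn_of_emb (Emb.mk' (B := B) hN₀ U.subtype fun x y => rfl) hA hN₀ ha hb
        (g := g) (g₀ := g₀) (fun x => (hg₀a x).symm) hg0
      rwa [show LinearMap.range (Emb.mk' (B := B) hN₀ U.subtype fun x y => rfl).incl = U from
        Submodule.range_subtype U] at this
    obtain ⟨W, hW, hs, hf, hz⟩ := β.exists_lagr
    obtain ⟨z, hzW, hz0, hgz, hspan⟩ := hz hodd
    have hTW : TW B g U := by
      refine ⟨W.map U.subtype, (z : V), hlag W hW, ?_, ⟨z, hzW, rfl⟩, fun h => hz0 (Subtype.ext h), ?_, ?_, ?_, ?_⟩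
      · rintro _ ⟨x, hx, rfl⟩ _ ⟨y, hy, rfl⟩
        show B₀ x (g₀ y) = B₀ y (g₀ x)
        rw [hneg, hneg, map_neg, map_neg, hs x hx y hy]
      · rw [← hg₀a, hneg, hgz]; rfl
      · rintro _ ⟨x, hx, rfl⟩ ⟨y, hy, he⟩
        have hy' : y = g₀ x := Subtype.ext he
        rw [hy', hneg] at hy
        have hy : β.g x ∈ W := neg_mem_iff.1 hy
        obtain ⟨c, hc⟩ := Submodule.mem_span_singleton.1 (hspan x hx (hf x hx hy))
        exact Submodule.mem_span_singleton.2 ⟨c, by rw [← hc]; rfl⟩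
      · rw [Submodule.finrank_map_subtype_eq]
        obtain ⟨W', -, h2', -, h4, h5⟩ := exists_complement hA₀ hW (X := ⊥)
          (fun a ha b _ => by rw [(Submodule.mem_bot F).1 ha]; simp) bot_le disjoint_bot_right
        have hd := (finrank_complement hA₀ (U := (⊤ : Submodule F U))
          (nd_of_forall fun y _ ho => hN₀.2 y fun x => ho x trivial) hW h2' h4 h5).2
        rw [finrank_top, β.finrank_eq] at hd
        rw [show finrank F W = β.e by omega]
        exact hodd
      · intro hd x hx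
        have he : β.e = 1 := by
          have := β.finrank_eq
          omega
        have hN : β.N = 0 := by
          have := β.N_pow
          rwa [he, pow_one] at this
        have h1 : β.g ⟨x, hx⟩ = ⟨x, hx⟩ := sub_eq_zero.1 (LinearMap.congr_fun hN ⟨x, hx⟩)
        have := congrArg Subtype.val (hneg ⟨x, hx⟩)
        rw [h1] at this
        exact this
    refine ⟨⊥, U, by rw [bot_sup_eq], perp_bot _, nd_bot, hU, inv_bot g, hgU, PL.bot g, hcom, Or.inr ?_⟩
    exact ⟨U, ⊥, by rw [sup_bot_eq], perp_bot' _, hU, nd_bot, hgU, inv_bot g, ComOn.bot g, hTW, h2⟩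

theorem exists_dec [Finite F] (hA : B.IsAlt) {g : V ≃ₗ[F] V} (hg : Isom B g) :
    ∀ U : Submodule F V, Nd B U → Inv g U → Dec B g U := by
  suffices H : ∀ (n : ℕ) (U : Submodule F V), finrank F U = n → Nd B U → Inv g U → Dec B g U from
    fun U => H _ U rfl
  intro n
  induction n using Nat.strong_induction_on with
  | _ n ih =>
    intro U hn hU hgU
    by_cases hne : U = ⊥
    · subst hne
      exact ⟨⊥, ⊥, by simp, perp_bot _, nd_bot, nd_bot, inv_bot g, inv_bot g, PL.bot g, ComOn.bot g, Or.inl rfl⟩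
    by_cases hI : ∀ X ≤ U, Inv g X → Nd B X → X ≠ ⊥ → X = U
    · exact dec_indec hA hg hU hgU hne hI
    simp only [not_forall] at hI
    obtain ⟨U₁, h1, hg1, hU1, hne1, hne1'⟩ := hI
    set U₂ := B.orthogonal U₁ ⊓ U with hU₂
    have hp : Perp B U₁ U₂ := fun x hx y hy => hy.1 x hx
    have hsplit : U = U₁ ⊔ U₂ := by
      refine le_antisymm (fun x hx => ?_) (sup_le h1 inf_le_right)
      have hc : IsCompl U₁ (B.orthogonal U₁) :=
        (LinearMap.BilinForm.isCompl_orthogonal_iff_disjoint hA.isRefl).2 hU1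
      obtain ⟨a, ha, b, hb, rfl⟩ := Submodule.mem_sup.1 (show x ∈ U₁ ⊔ B.orthogonal U₁ by
        rw [hc.sup_eq_top]; trivial)
      refine Submodule.add_mem_sup ha ⟨hb, ?_⟩
      have := sub_mem hx (h1 ha)
      simpa using this
    have hU2 : Nd B U₂ := nd_of_forall fun y hy ho => hU.eq_zero hy.2 fun x hx => by
      rw [hsplit] at hx
      obtain ⟨a, ha, b, hb, rfl⟩ := Submodule.mem_sup.1 hx
      rw [map_add, LinearMap.add_apply, hp a ha y hy, ho b hb, add_zero]
    have hg2 : Inv g U₂ := fun y hy => ⟨fun x hx => by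
      have e : x = g (g⁻¹ x) := (g.apply_symm_apply x).symm
      rw [e, hg]
      exact hy.1 _ (inv_mem hg1 hx), hgU y hy.2⟩
    have hlt1 : finrank F U₁ < n := hn ▸ Submodule.finrank_lt_finrank_of_lt (lt_of_le_of_ne h1 hne1')
    have hlt2 : finrank F U₂ < n := by
      refine hn ▸ Submodule.finrank_lt_finrank_of_lt (lt_of_le_of_ne inf_le_right fun h => hne1 ?_)
      rw [Submodule.eq_bot_iff]
      intro x hx
      refine hU.eq_zero (h1 hx) fun y hy => ?_
      rw [← h] at hy
      exact hA.isRefl _ _ (hy.1 x hx)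
    obtain ⟨L, M, e1, p1, nL, nM, gL, gM, plL, cM, hT⟩ := ih _ hlt1 U₁ rfl hU1 hg1
    obtain ⟨L', M', e2, p2, nL', nM', gL', gM', plL', cM', hT'⟩ := ih _ hlt2 U₂ rfl hU2 hg2
    rw [e1, e2] at hp hsplit
    have q1 : Perp B L L' := hp.mono le_sup_left le_sup_left
    have q2 : Perp B L M' := hp.mono le_sup_left le_sup_right
    have q3 : Perp B M L' := hp.mono le_sup_right le_sup_left
    have q4 : Perp B M M' := hp.mono le_sup_right le_sup_right
    refine ⟨L ⊔ L', M ⊔ M', by rw [hsplit, sup_sup_sup_comm],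
      (p1.sup_right q2).sup_left ((q3.symm hA).sup_right p2), nL.sup hA nL' q1, nM.sup hA nM' q4,
      gL.sup gL', gM.sup gM', PL.sup hA nL' gL gL' q1 plL plL', cM.sup hA cM' q4, ?_⟩
    rcases hT with hM | ⟨T, R, eM, pTR, nT, nR, gT, gR, cR, tw, h2⟩
    · rcases hT' with hM' | ⟨T, R, eM, pTR, nT, nR, gT, gR, cR, tw, h2⟩
      · exact Or.inl (by rw [hM, hM', sup_bot_eq])
      · exact Or.inr ⟨T, R, by rw [hM, bot_sup_eq, eM], pTR, nT, nR, gT, gR, cR, tw, h2⟩
    · refine Or.inr ⟨T, R ⊔ M', by rw [eM, sup_assoc], pTR.sup_right (q4.mono (eM ▸ le_sup_left) le_rfl),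
        nT, nR.sup hA nM' (q4.mono (eM ▸ le_sup_right) le_rfl), gT, gR.sup gM',
        cR.sup hA cM' (q4.mono (eM ▸ le_sup_right) le_rfl), tw, h2⟩

theorem comOn_fixed {g : V ≃ₗ[F] V} {U : Submodule F V} (h : ∀ x ∈ U, g x = x) : ComOn B g U :=
  ⟨1, 1, isom_one, isom_one, fun _ _ => ⟨rfl, rfl⟩, fun _ hv => ⟨hv, hv⟩, fun v hv => by
    rw [h v hv]; simp⟩

theorem merge [Fintype F] (hc : Fintype.card F = 3) (hA : B.IsAlt) {g : V ≃ₗ[F] V} (hg : Isom B g)
    {L T : Submodule F V} (hL : Nd B L) (hT : Nd B T) (hp : Perp B L T) (gL : Inv g L) (gT : Inv g T)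
    (hPL : PL B g L) (hTW : TW B g T) (hL2 : finrank F L = 2) (hne : ¬ ∀ x ∈ L, g x = x) :
    ComOn B g (L ⊔ T) := by
  classical
  haveI : Fact (Nat.Prime 3) := ⟨Nat.prime_three⟩
  obtain ⟨φ, hφ⟩ := exists_hom hc
  -- a vector moved out of its line
  obtain ⟨v, hvL, hgv⟩ : ∃ v ∈ L, g v ∉ Submodule.span F {v} := by
    by_contra hcon
    simp only [not_exists, not_and, not_not] at hcon
    obtain ⟨W, hW, -, hfix⟩ := hPL
    obtain ⟨W', -, h2', -, h4, h5⟩ := exists_complement hA hW (X := ⊥)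
      (fun a ha b _ => by rw [(Submodule.mem_bot F).1 ha]; simp) bot_le disjoint_bot_right
    have hd := (finrank_complement hA hL hW h2' h4 h5).2
    obtain ⟨w, hw, hw0⟩ := Submodule.exists_mem_ne_zero_of_ne_bot (p := W) (fun h => by
      rw [h, finrank_bot] at hd; omega)
    have hgw : g w = w := by
      obtain ⟨c, hc⟩ := Submodule.mem_span_singleton.1 (hcon w (hW.1 hw))
      exact hfix w hw (hc ▸ W.smul_mem c hw)
    refine hne fun u hu => ?_
    by_cases huw : u ∈ Submodule.span F {w}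
    · obtain ⟨c, rfl⟩ := Submodule.mem_span_singleton.1 huw
      rw [map_smul, hgw]
    · obtain ⟨c, hcu⟩ := Submodule.mem_span_singleton.1 (hcon u hu)
      obtain ⟨d, hd'⟩ := Submodule.mem_span_singleton.1 (hcon (u + w) (add_mem hu (hW.1 hw)))
      rw [map_add, ← hcu, hgw, smul_add] at hd'
      have h0 : (d - c) • u = (1 - d) • w := by
        rw [sub_smul, sub_smul, one_smul]
        linear_combination (norm := module) hd'
      have hdc : d = c := by
        by_contra hdc
        apply huw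
        refine Submodule.mem_span_singleton.2 ⟨(d - c)⁻¹ * (1 - d), ?_⟩
        rw [mul_smul, ← h0, smul_smul, inv_mul_cancel₀ (sub_ne_zero.2 hdc), one_smul]
      rw [hdc, sub_self, zero_smul] at h0
      have h1c : (1 : F) - c = 0 := (smul_eq_zero.1 h0.symm).resolve_right hw0
      rw [← hcu, ← sub_eq_zero.1 h1c, one_smul]
  have hv0 : v ≠ 0 := fun h => hgv (by rw [h, map_zero]; exact zero_mem _)
  have hliL : LinearIndependent F ![v, g v] := by
    rw [LinearIndependent.pair_iff' hv0]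
    intro a h
    exact hgv (Submodule.mem_span_singleton.2 ⟨a, h⟩)
  have hspanL : ∀ x ∈ L, ∃ a b : F, a • v + b • g v = x := by
    intro x hx
    have hle : Submodule.span F (Set.range ![v, g v]) ≤ L := Submodule.span_le.2 (by
      rintro _ ⟨i, rfl⟩; fin_cases i
      · exact hvL
      · exact gL v hvL)
    have he := Submodule.eq_of_le_of_finrank_eq hle (by rw [finrank_span_eq_card hliL, hL2, Fintype.card_fin])
    rw [← he, Submodule.mem_span_range_iff_exists_fun] at hx
    obtain ⟨c, hc⟩ := hx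
    exact ⟨c 0, c 1, by simpa [Fin.sum_univ_two] using hc⟩
  have hc0 : B v (g v) ≠ 0 := fun h => hv0 (hL.eq_zero hvL fun x hx => by
    obtain ⟨a, b, rfl⟩ := hspanL x hx
    simp [hA v, hA.isRefl _ _ h])
  obtain ⟨W, z, hW, hsym, hzW, hz0, hgz, hker, hoddW, hsmall⟩ := hTW
  have hvvz : ∀ x ∈ T, B v x = 0 ∧ B x v = 0 := fun x hx => ⟨hp v hvL x hx, (hp.symm hA) x hx v hvL⟩
  obtain ⟨W', -, h2', -, h4, h5⟩ := exists_complement hA hW (X := ⊥)
    (fun a ha b _ => by rw [(Submodule.mem_bot F).1 ha]; simp) bot_le disjoint_bot_right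
  have hdT := (finrank_complement hA hT hW h2' h4 h5).2
  obtain ⟨j, hj⟩ := hoddW
  by_cases hj0 : j = 0
  · -- the four dimensional case
    subst hj0
    have hT2 : finrank F T = 2 := by omega
    have hneg := hsmall hT2
    obtain ⟨u, hu, huz⟩ : ∃ u ∈ T, B u z = 1 := by
      obtain ⟨u, hu, h⟩ : ∃ u ∈ T, B u z ≠ 0 := by
        by_contra hcon
        simp only [not_exists, not_and, not_not] at hcon
        exact hz0 (hT.eq_zero (hW.1 hzW) hcon)
      exact ⟨(B u z)⁻¹ • u, T.smul_mem _ hu, by simp [h]⟩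
    have hzu : B z u = -1 := by rw [alt_swap hA, huz]
    set c := B v (g v) with hcdef
    set f := (-c⁻¹) • g v with hf
    obtain ⟨α, τ, hg2⟩ := hspanL (g (g v)) (gL _ (gL v hvL))
    have hα : α = -1 := by
      have h := hg v (g v)
      rw [← hg2, map_add, map_smul, map_smul, hA (g v), smul_zero, add_zero, smul_eq_mul,
        alt_swap hA (g v) v, ← hcdef] at h
      exact mul_right_cancel₀ hc0 (by linear_combination -h : α * c = -1 * c)
    have hpre : ∀ y : F, ∃ x : ZMod 3, φ x = y := by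
      intro y
      have hb : Function.Bijective φ := (Fintype.bijective_iff_injective_and_card _).2 ⟨hφ, by rw [ZMod.card, hc]⟩
      exact hb.2 y
    obtain ⟨c', hc'⟩ := hpre c
    obtain ⟨τ', hτ'⟩ := hpre τ
    have hc'0 : c' ≠ 0 := fun h => hc0 (by rw [← hc', h, map_zero])
    have hcc : c * c = 1 := by
      rw [← hc', ← map_mul, zmod3_sq c' hc'0, map_one]
    have hci : c⁻¹ = c := inv_eq_of_mul_eq_one_right hcc
    obtain ⟨X, Y, hX, hY, hXY⟩ := exists_small_witness c' τ' hc'0
    have hee : ∀ i k : Fin 2, B (![v, z] i) (![v, z] k) = 0 := by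
      intro i k; fin_cases i <;> fin_cases k <;> simp [hA v, hA z, hvvz z (hW.1 hzW)]
    have hfu : ∀ x ∈ T, B f x = 0 ∧ B x f = 0 := fun x hx =>
      ⟨hp f (L.smul_mem _ (gL v hvL)) x hx, (hp.symm hA) x hx f (L.smul_mem _ (gL v hvL))⟩
    have hff : ∀ i k : Fin 2, B (![f, u] i) (![f, u] k) = 0 := by
      intro i k; fin_cases i <;> fin_cases k <;> simp [hA f, hA u, hfu u hu]
    have hfe : ∀ i k : Fin 2, B (![f, u] i) (![v, z] k) = if i = k then 1 else 0 := by
      intro i k
      fin_cases i <;> fin_cases k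
      · simp [hf, alt_swap hA (g v) v, ← hcdef, hc0]
      · simp [hfu z (hW.1 hzW)]
      · simp [hvvz u hu]
      · simp [huz]
    set E := Emb.mk' (B := B) jForm_nd (frameMap ![v, z] ![f, u]) (frameMap_isom hA hee hff hfe) with hE
    have hincl : E.incl = frameMap ![v, z] ![f, u] := rfl
    have hrange : LinearMap.range E.incl = L ⊔ T := by
      rw [hincl]
      apply le_antisymm
      · rintro _ ⟨x, rfl⟩
        refine add_mem (sum_mem fun i _ => Submodule.smul_mem _ _ ?_) (sum_mem fun i _ => Submodule.smul_mem _ _ ?_)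
        · fin_cases i
          · exact Submodule.mem_sup_left hvL
          · exact Submodule.mem_sup_right (hW.1 hzW)
        · fin_cases i
          · exact Submodule.mem_sup_left (L.smul_mem _ (gL v hvL))
          · exact Submodule.mem_sup_right hu
      · refine sup_le (fun x hx => ?_) (fun x hx => ?_)
        · obtain ⟨a, b, rfl⟩ := hspanL x hx
          refine ⟨Sum.elim ![a, 0] ![-c * b, 0], ?_⟩
          simp [frameMap, Fin.sum_univ_two, hf, smul_smul]
          match_scalars <;> field_simp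
        · have hli : LinearIndependent F ![z, u] := by
            rw [LinearIndependent.pair_iff]
            intro s t hst
            have h1 := congrArg (B z) hst
            have h2 := congrArg (B u) hst
            simp [hA z, hA u, hzu, huz] at h1 h2
            exact ⟨h2, h1⟩
          have hle : Submodule.span F (Set.range ![z, u]) ≤ T := Submodule.span_le.2 (by
            rintro _ ⟨i, rfl⟩; fin_cases i
            · exact hW.1 hzW
            · exact hu)
          have he := Submodule.eq_of_le_of_finrank_eq hle (by rw [finrank_span_eq_card hli, hT2, Fintype.card_fin])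
          rw [← he, Submodule.mem_span_range_iff_exists_fun] at hx
          obtain ⟨d, hd⟩ := hx
          refine ⟨Sum.elim ![0, d 0] ![0, d 1], ?_⟩
          simpa [frameMap, Fin.sum_univ_two] using hd
    have hmem : ∀ M : Matrix (Fin 2 ⊕ Fin 2) (Fin 2 ⊕ Fin 2) (ZMod 3),
        Mᵀ * J (Fin 2) (ZMod 3) * M = J (Fin 2) (ZMod 3) → M.map φ ∈ Matrix.symplecticGroup (Fin 2) F :=
      fun M hM => SymplecticGroup.map_mem (SymplecticGroup.mem_iff'.2 hM) φ
    set X' : Matrix.symplecticGroup (Fin 2) F := ⟨X.map φ, hmem X hX⟩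
    set Y' : Matrix.symplecticGroup (Fin 2) F := ⟨Y.map φ, hmem Y hY⟩
    have hG : ∀ x, g (E.incl x) = E.incl ((smallMat c' τ').map φ *ᵥ x) := by
      have h : g.toLinearMap ∘ₗ E.incl = E.incl ∘ₗ Matrix.toLin' ((smallMat c' τ').map φ) := by
        refine (Pi.basisFun F (Fin 2 ⊕ Fin 2)).ext fun i => ?_
        simp only [Pi.basisFun_apply, LinearMap.comp_apply, LinearEquiv.coe_coe, Matrix.toLin'_apply,
          Matrix.mulVec_single, MulOpposite.op_one, one_smul]
        rw [hincl]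
        rcases i with i | i
        · rw [frameMap_inl]
          fin_cases i
          · simp [frameMap, Fin.sum_univ_two, smallMat, hf, hc', smul_smul, hc0]
          · simp [frameMap, Fin.sum_univ_two, smallMat, hgz]
        · rw [frameMap_inr]
          fin_cases i
          · simp [frameMap, Fin.sum_univ_two, smallMat, hf, hc', hτ', ← hg2, hα, hci, smul_smul]
            module
          · simp [frameMap, Fin.sum_univ_two, smallMat, hneg u hu]
      intro x
      exact LinearMap.congr_fun h x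
    have hmG : (smallMat c' τ').map φ ∈ Matrix.symplecticGroup (Fin 2) F := jForm_isom_iff.2 fun x y => by
      rw [← E.isom, ← E.isom, ← hG, ← hG, hg]
    have hrel : (⟨_, hmG⟩ : Matrix.symplecticGroup (Fin 2) F) * (Y' * X') = X' * Y' := Subtype.ext (by
      show (smallMat c' τ').map φ * (Y.map φ * X.map φ) = X.map φ * Y.map φ
      rw [← Matrix.map_mul, ← Matrix.map_mul, ← Matrix.map_mul, hXY])
    rw [← hrange]
    refine comOn_of_emb E hA jForm_nd (g₀ := toIso ⟨_, hmG⟩) (toIso_isom X') (toIso_isom Y') hG ?_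
    rw [show (⟨_, hmG⟩ : Matrix.symplecticGroup (Fin 2) F) = X' * Y' * X'⁻¹ * Y'⁻¹ by
      rw [← hrel]; group]
    simp only [map_mul, map_inv]
  · -- the flip
    obtain ⟨ι, fι, dι, a, b, A, P, hab, hcard, hAd, hPd, hG, hPA⟩ := exists_good_flip hc (j - 1)
    obtain ⟨C, hC⟩ := (Submodule.span F {z}).exists_isCompl
    set W₁ := W ⊓ C with hW₁
    have hW₁' : Submodule.span F {z} ⊔ W₁ = W := by
      rw [hW₁, inf_comm, ← sup_inf_assoc_of_le C ((Submodule.span_singleton_le_iff_mem _ _).2 hzW), hC.sup_eq_top, top_inf_eq]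
    have hd1 : finrank F W₁ = 2 * j := by
      have h := Submodule.finrank_sup_add_finrank_inf_eq (Submodule.span F {z}) W₁
      rw [hW₁', (hC.disjoint.mono_right inf_le_right).eq_bot, finrank_bot, finrank_span_singleton hz0, hj] at h
      omega
    let κ := {i : ι // i ≠ a ∧ i ≠ b}
    have hcκ : Fintype.card κ = 2 * j := by
      show Fintype.card {i : ι // i ≠ a ∧ i ≠ b} = 2 * j
      rw [Fintype.card_subtype]
      have : (Finset.univ.filter fun i : ι => i ≠ a ∧ i ≠ b) = ((Finset.univ : Finset ι).erase a).erase b := by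
        ext i; simp [and_comm]
      rw [this, Finset.card_erase_of_mem (by simp [hab.symm]), Finset.card_erase_of_mem (by simp),
        Finset.card_univ, hcard]
      omega
    let bW := (finBasis F W₁).reindex (Fintype.equivFinOfCardEq (hcκ.trans hd1.symm)).symm
    let vec : ι → V := fun i => if h : i ≠ a ∧ i ≠ b then (bW ⟨i, h⟩ : V) else if i = a then z else v
    have hva : vec a = z := by simp [vec]
    have hvb : vec b = v := by simp [vec, hab.symm]
    have hvo : ∀ i (h : i ≠ a ∧ i ≠ b), vec i = (bW ⟨i, h⟩ : V) := fun i h => by simp [vec, h]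
    set Wv := Submodule.span F (Set.range vec) with hWv
    have hcase : ∀ i, i = a ∨ i = b ∨ (i ≠ a ∧ i ≠ b) := fun i => by
      by_cases h : i = a
      · exact Or.inl h
      · by_cases h' : i = b
        · exact Or.inr (Or.inl h')
        · exact Or.inr (Or.inr ⟨h, h'⟩)
    have hWveq : Wv = W ⊔ Submodule.span F {v} := by
      apply le_antisymm
      · rw [hWv, Submodule.span_le]
        rintro _ ⟨i, rfl⟩
        rcases hcase i with h | h | h
        · rw [h, hva]; exact Submodule.mem_sup_left hzW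
        · rw [h, hvb]; exact Submodule.mem_sup_right (Submodule.mem_span_singleton_self v)
        · rw [hvo i h]; exact Submodule.mem_sup_left (inf_le_left (b := C) (bW ⟨i, h⟩).2)
      · refine sup_le ?_ ((Submodule.span_singleton_le_iff_mem _ _).2 (Submodule.subset_span ⟨b, hvb⟩))
        rw [← hW₁']
        refine sup_le ((Submodule.span_singleton_le_iff_mem _ _).2 (Submodule.subset_span ⟨a, hva⟩)) ?_
        intro x hx
        rw [show x = ((⟨x, hx⟩ : W₁) : V) from rfl, ← bW.sum_repr ⟨x, hx⟩]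
        simp only [Submodule.coe_sum, Submodule.coe_smul]
        exact sum_mem fun i _ => Submodule.smul_mem _ _ (Submodule.subset_span ⟨i.1, hvo i.1 i.2⟩)
    have hdisjWv : Disjoint W (Submodule.span F {v}) :=
      ((hp.disjoint hT hA).symm.mono hW.1 ((Submodule.span_singleton_le_iff_mem _ _).2 hvL))
    have hli : LinearIndependent F vec := by
      rw [linearIndependent_iff_card_eq_finrank_span, Set.finrank, ← hWv, hWveq]
      have h := Submodule.finrank_sup_add_finrank_inf_eq W (Submodule.span F {v})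
      rw [hdisjWv.eq_bot, finrank_bot, finrank_span_singleton hv0, hj] at h
      omega
    let bv : Basis ι F Wv := Basis.span hli
    have hbv : ∀ i, (bv i : V) = vec i := fun i => congrArg Subtype.val (Basis.span_apply hli i)
    set D : Matrix ι ι F := Matrix.diagonal fun i => if i = a ∨ i = b then -1 else 1 with hD
    let m : Wv →ₗ[F] Wv := Matrix.toLin bv bv D
    have hm : ∀ i, m (bv i) = (if i = a ∨ i = b then (-1 : F) else 1) • bv i := by
      intro i
      show Matrix.toLin bv bv D (bv i) = _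
      rw [Matrix.toLin_self, Finset.sum_eq_single i]
      · simp [hD]
      · intro k _ hk; simp [hD, Matrix.diagonal_apply_ne _ hk]
      · simp
    have hlag : Lagr B (L ⊔ T) Wv := by
      refine ⟨?_, ?_, ?_⟩
      · rw [hWveq]
        exact sup_le (hW.1.trans le_sup_right) (((Submodule.span_singleton_le_iff_mem _ _).2 hvL).trans le_sup_left)
      · rw [hWveq]
        refine Perp.sup_left (Perp.sup_right hW.2.1 ?_) (Perp.sup_right ?_ ?_)
        · exact (hp.symm hA).mono hW.1 ((Submodule.span_singleton_le_iff_mem _ _).2 hvL)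
        · exact hp.mono ((Submodule.span_singleton_le_iff_mem _ _).2 hvL) hW.1
        · intro x hx y hy
          obtain ⟨s, rfl⟩ := Submodule.mem_span_singleton.1 hx
          obtain ⟨t, rfl⟩ := Submodule.mem_span_singleton.1 hy
          simp [hA v]
      · rintro x ⟨ho, hx⟩
        obtain ⟨l, hl, t, ht, rfl⟩ := Submodule.mem_sup.1 hx
        rw [hWveq, sup_comm]
        refine Submodule.add_mem_sup ?_ (hW.2.2 ⟨fun w hw => ?_, ht⟩)
        · obtain ⟨s, r, rfl⟩ := hspanL l hl
          have h := ho v (hWveq ▸ Submodule.mem_sup_right (Submodule.mem_span_singleton_self v))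
          simp [hA v, hvvz t ht, hc0] at h
          rw [h, zero_smul, add_zero]
          exact Submodule.smul_mem _ _ (Submodule.mem_span_singleton_self v)
        · have h := ho w (hWveq ▸ Submodule.mem_sup_left hw)
          rwa [map_add, (hp.symm hA) w (hW.1 hw) l hl, zero_add] at h
    have hsymv : ∀ w w' : Wv, B (m w : V) (g w') = B (m w' : V) (g w) := by
      have h : ∀ i k, B (m (bv i) : V) (g (bv k : V)) = B (m (bv k) : V) (g (bv i : V)) := by
        intro i k
        rw [hm, hm]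
        simp only [Submodule.coe_smul, map_smul, LinearMap.smul_apply, smul_eq_mul, hbv]
        have hz' : ∀ w ∈ W, B w (g z) = 0 ∧ B z (g w) = 0 := by
          intro w hw
          have h1 : B w (g z) = 0 := by rw [hgz, map_neg, hW.2.1 w hw z hzW, neg_zero]
          exact ⟨h1, by rw [hsym z hzW w hw, h1]⟩
        have hv' : ∀ w ∈ W, B w (g v) = 0 ∧ B v (g w) = 0 := fun w hw =>
          ⟨(hp.symm hA) w (hW.1 hw) _ (gL v hvL), hp v hvL _ (gT w (hW.1 hw))⟩
        have hmemW : ∀ i (h : i ≠ a ∧ i ≠ b), vec i ∈ W := fun i h => by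
          rw [hvo i h]; exact inf_le_left (b := C) (bW ⟨i, h⟩).2
        rcases hcase i with rfl | rfl | hi <;> rcases hcase k with rfl | rfl | hk
        · rfl
        · rw [hva, hvb, (hv' z hzW).1, (hv' z hzW).2]; simp
        · rw [hva, (hz' _ (hmemW k hk)).2, (hz' _ (hmemW k hk)).1]; simp
        · rw [hva, hvb, (hv' z hzW).1, (hv' z hzW).2]; simp
        · rfl
        · rw [hvb, (hv' _ (hmemW k hk)).2, (hv' _ (hmemW k hk)).1]; simp
        · rw [hva, (hz' _ (hmemW i hi)).2, (hz' _ (hmemW i hi)).1]; simp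
        · rw [hvb, (hv' _ (hmemW i hi)).2, (hv' _ (hmemW i hi)).1]; simp
        · rw [if_neg (by tauto), if_neg (by tauto), hsym _ (hmemW i hi) _ (hmemW k hk)]
      let β₁ : LinearMap.BilinForm F Wv := B.compl₁₂ (Wv.subtype ∘ₗ m) (g.toLinearMap ∘ₗ Wv.subtype)
      have hflip : β₁ = β₁.flip := LinearMap.BilinForm.ext_basis bv fun i k => h i k
      intro w w'
      exact LinearMap.congr_fun₂ hflip w w'
    have hfixv : ∀ w : Wv, g (w : V) ∈ Wv → g (w : V) = (m w : V) := by
      intro w hgw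
      have hw : (w : V) ∈ W ⊔ Submodule.span F {v} := hWveq ▸ w.2
      obtain ⟨t, ht, s, hs, hts⟩ := Submodule.mem_sup.1 hw
      obtain ⟨r, rfl⟩ := Submodule.mem_span_singleton.1 hs
      have hgw' : g (w : V) ∈ W ⊔ Submodule.span F {v} := (le_of_eq hWveq) hgw
      obtain ⟨t', ht', s', hs', hts'⟩ := Submodule.mem_sup.1 hgw'
      rw [← hts, map_add, map_smul] at hts'
      have hd : t' - g t = r • g v - s' := by linear_combination (norm := abel) hts'
      have hd0 : t' - g t = 0 := by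
        refine Submodule.disjoint_def.1 (hp.disjoint hT hA) _ ?_ (sub_mem (hW.1 ht') (gT t (hW.1 ht)))
        rw [hd]
        exact sub_mem (L.smul_mem _ (gL v hvL)) ((Submodule.span_singleton_le_iff_mem _ _).2 hvL hs')
      have hr : r = 0 := by
        by_contra hr
        rw [hd0] at hd
        apply hgv
        have : g v = r⁻¹ • s' := by rw [← sub_eq_zero.1 hd.symm, smul_smul, inv_mul_cancel₀ hr, one_smul]
        rw [this]
        exact Submodule.smul_mem _ _ hs'
      have hgt : g t ∈ W := by rw [← sub_eq_zero.1 hd0]; exact ht'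
      obtain ⟨q, hq⟩ := Submodule.mem_span_singleton.1 (hker t ht hgt)
      have hwz : (w : V) = q • z := by rw [← hts, hr, zero_smul, add_zero, hq]
      have hw' : w = q • bv a := Subtype.ext (by rw [Submodule.coe_smul, hbv, hva]; exact hwz)
      rw [hwz, hw', map_smul, map_smul, hm, if_pos (Or.inl rfl), Submodule.coe_smul, Submodule.coe_smul,
        hbv, hva, hgz]
      simp
    refine comOn_of_lagr hA hg (hL.sup hA hT hp) (gL.sup gT) hlag bv (A := A) (P := P) hAd
      hPd hG m ?_ hsymv hfixv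
    rw [LinearMap.toMatrix_toLin]
    have hDD : D * D = 1 := by
      rw [hD, diagonal_mul_diagonal, ← diagonal_one]
      congr 1; funext i; split <;> simp
    have hAu := det_unit hAd
    have hPu := det_unit hPd
    have hDi : D⁻¹ = D := inv_eq_right_inv hDD
    have key : P * A⁻¹ * P⁻¹ = (D * A)⁻¹ := by
      have h1 : P * A * P⁻¹ = D * A := by
        rw [hPA, Matrix.mul_assoc, mul_nonsing_inv P hPu, Matrix.mul_one]
      rw [← h1, Matrix.mul_inv_rev, Matrix.mul_inv_rev, nonsing_inv_nonsing_inv P hPu, ← Matrix.mul_assoc]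
    rw [key, Matrix.mul_inv_rev, hDi, ← Matrix.mul_assoc, mul_nonsing_inv A hAu, Matrix.one_mul]

end CfsgLib.OreSp
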