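import Cfsg.Agent.Lib.OreSp.Block

/-!
Commutators of isometries of an alternating space supported on non-degenerate subspaces, and the
criterion by an invariant Lagrangian pair.
-/

set_option autoImplicit false

namespace CfsgLib.OreSp

open Matrix Module

variable {F : Type*} [Field F] {V : Type*} [AddCommGroup V] [Module F V]
variable {B : LinearMap.BilinForm F V}

/-- isometry -/
def Isom (B : LinearMap.BilinForm F V) (g : V ≃ₗ[F] V) : Prop := ∀ x y, B (g x) (g y) = B x y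

theorem isom_one : Isom B (1 : V ≃ₗ[F] V) := fun _ _ => rfl

theorem Isom.mul {a b : V ≃ₗ[F] V} (ha : Isom B a) (hb : Isom B b) : Isom B (a * b) := fun x y => by
  show B (a (b x)) (a (b y)) = _
  rw [ha, hb]

theorem Isom.inv {a : V ≃ₗ[F] V} (ha : Isom B a) : Isom B a⁻¹ := fun x y => by
  have := ha (a.symm x) (a.symm y)
  simp only [LinearEquiv.apply_symm_apply] at this
  exact this.symm

theorem alt_swap (hA : B.IsAlt) (x y : V) : B x y = -B y x :=
  (LinearMap.BilinForm.IsAlt.neg_eq hA y x).symm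

/-- non-degenerate subspace -/
def Nd (B : LinearMap.BilinForm F V) (U : Submodule F V) : Prop := Disjoint U (B.orthogonal U)

/-- orthogonal subspaces -/
def Perp (B : LinearMap.BilinForm F V) (U U' : Submodule F V) : Prop :=
  ∀ x ∈ U, ∀ y ∈ U', B x y = 0

theorem Perp.symm (hA : B.IsAlt) {U U' : Submodule F V} (h : Perp B U U') : Perp B U' U :=
  fun x hx y hy => hA.isRefl y x (h y hy x hx)

theorem mem_orth {U : Submodule F V} {y : V} : y ∈ B.orthogonal U ↔ ∀ x ∈ U, B x y = 0 := Iff.rfl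

theorem Nd.eq_zero {U : Submodule F V} (h : Nd B U) {y : V} (hy : y ∈ U)
    (ho : ∀ x ∈ U, B x y = 0) : y = 0 := Submodule.disjoint_def.1 h y hy ho

theorem nd_of_forall {U : Submodule F V} (h : ∀ y ∈ U, (∀ x ∈ U, B x y = 0) → y = 0) : Nd B U :=
  Submodule.disjoint_def.2 h

theorem Nd.sup (hA : B.IsAlt) {U U' : Submodule F V} (h : Nd B U) (h' : Nd B U')
    (hp : Perp B U U') : Nd B (U ⊔ U') := by
  refine nd_of_forall fun z hz ho => ?_
  obtain ⟨u, hu, u', hu', rfl⟩ := Submodule.mem_sup.1 hz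
  have h1 : u = 0 := h.eq_zero hu fun x hx => by
    have := ho x (Submodule.mem_sup_left hx)
    rwa [map_add, hp x hx u' hu', add_zero] at this
  have h2 : u' = 0 := h'.eq_zero hu' fun x hx => by
    have := ho x (Submodule.mem_sup_right hx)
    rwa [map_add, (hp.symm hA) x hx u hu, zero_add] at this
  rw [h1, h2, add_zero]

/-- `g` is on `U` a commutator of isometries supported on `U` -/
def ComOn (B : LinearMap.BilinForm F V) (g : V ≃ₗ[F] V) (U : Submodule F V) : Prop :=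
  ∃ a b : V ≃ₗ[F] V, Isom B a ∧ Isom B b ∧
    (∀ v ∈ B.orthogonal U, a v = v ∧ b v = v) ∧
    (∀ v ∈ U, a v ∈ U ∧ b v ∈ U) ∧
    ∀ v ∈ U, g v = (a * b * a⁻¹ * b⁻¹) v

theorem inv_mem [FiniteDimensional F V] {a : V ≃ₗ[F] V} {U : Submodule F V}
    (h : ∀ v ∈ U, a v ∈ U) {v : V} (hv : v ∈ U) : a⁻¹ v ∈ U := by
  have hmap : U.map (a : V →ₗ[F] V) = U :=
    Submodule.eq_of_le_of_finrank_eq (by rintro _ ⟨u, hu, rfl⟩; exact h u hu)
      (a.finrank_map_eq U)
  rw [← hmap] at hv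
  obtain ⟨u, hu, rfl⟩ := hv
  show a.symm (a u) ∈ U
  rwa [LinearEquiv.symm_apply_apply]

theorem inv_fix {a : V ≃ₗ[F] V} {v : V} (h : a v = v) : a⁻¹ v = v := by
  show a.symm v = v
  conv_lhs => rw [← h]
  exact a.symm_apply_apply v

theorem ComOn.bot (g : V ≃ₗ[F] V) : ComOn B g ⊥ :=
  ⟨1, 1, isom_one, isom_one, fun _ _ => ⟨rfl, rfl⟩, fun _ hv => ⟨hv, hv⟩, fun v hv => by
    rw [(Submodule.mem_bot F).1 hv]; simp⟩

theorem ComOn.sup [FiniteDimensional F V] (hA : B.IsAlt) {g : V ≃ₗ[F] V} {U U' : Submodule F V}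
    (h : ComOn B g U) (h' : ComOn B g U') (hp : Perp B U U') : ComOn B g (U ⊔ U') := by
  obtain ⟨a, b, ha, hb, hfix, hpres, hg⟩ := h
  obtain ⟨a', b', ha', hb', hfix', hpres', hg'⟩ := h'
  have hU : ∀ v ∈ U, a' v = v ∧ b' v = v := fun v hv => hfix' v fun x hx => (hp.symm hA) x hx v hv
  have hU' : ∀ v ∈ U', a v = v ∧ b v = v := fun v hv => hfix v fun x hx => hp x hx v hv
  refine ⟨a * a', b * b', ha.mul ha', hb.mul hb', ?_, ?_, ?_⟩
  · intro v hv
    have h1 := hfix v fun x hx => hv x (Submodule.mem_sup_left hx)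
    have h2 := hfix' v fun x hx => hv x (Submodule.mem_sup_right hx)
    exact ⟨by show a (a' v) = v; rw [h2.1, h1.1], by show b (b' v) = v; rw [h2.2, h1.2]⟩
  · intro v hv
    obtain ⟨u, hu, u', hu', rfl⟩ := Submodule.mem_sup.1 hv
    constructor
    · show a (a' (u + u')) ∈ U ⊔ U'
      rw [map_add a', map_add a, (hU u hu).1, (hU' _ (hpres' u' hu').1).1]
      exact Submodule.add_mem_sup (hpres u hu).1 (hpres' u' hu').1
    · show b (b' (u + u')) ∈ U ⊔ U'
      rw [map_add b', map_add b, (hU u hu).2, (hU' _ (hpres' u' hu').2).2]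
      exact Submodule.add_mem_sup (hpres u hu).2 (hpres' u' hu').2
  · intro v hv
    obtain ⟨u, hu, u', hu', rfl⟩ := Submodule.mem_sup.1 hv
    rw [map_add g, map_add ((a * a') * (b * b') * (a * a')⁻¹ * (b * b')⁻¹)]
    congr 1
    · rw [hg u hu]
      simp only [_root_.mul_inv_rev, LinearEquiv.mul_apply]
      have i1 : b⁻¹ u ∈ U := inv_mem (fun w hw => (hpres w hw).2) hu
      have i2 : a⁻¹ (b⁻¹ u) ∈ U := inv_mem (fun w hw => (hpres w hw).1) i1
      rw [inv_fix (hU _ i1).2, inv_fix (hU _ i2).1, (hU _ i2).2, (hU _ (hpres _ i2).2).1]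
    · rw [hg' u' hu']
      simp only [_root_.mul_inv_rev, LinearEquiv.mul_apply]
      have i1 : b'⁻¹ u' ∈ U' := inv_mem (fun w hw => (hpres' w hw).2) hu'
      have i2 : a'⁻¹ (b'⁻¹ u') ∈ U' := inv_mem (fun w hw => (hpres' w hw).1) i1
      rw [inv_fix (hU' _ hu').2, inv_fix (hU' _ i1).1, (hU' _ (hpres' _ i2).2).2,
        (hU' _ (hpres' _ (hpres' _ i2).2).1).1]

section Emb

variable {W : Type*} [AddCommGroup W] [Module F W] {ω : LinearMap.BilinForm F W}

/-- an isometric embedding with its orthogonal projection -/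
structure Emb (B : LinearMap.BilinForm F V) (ω : LinearMap.BilinForm F W) where
  /-- the embedding -/
  incl : W →ₗ[F] V
  /-- the projection -/
  proj : V →ₗ[F] W
  isom : ∀ x y, B (incl x) (incl y) = ω x y
  proj_incl : ∀ x, proj (incl x) = x
  perp : ∀ x v, B (incl x) (v - incl (proj v)) = 0

/-- embedding from an isometric linear map out of a non-degenerate space -/
noncomputable def Emb.mk' [FiniteDimensional F W] (hω : ω.Nondegenerate) (f : W →ₗ[F] V)
    (hf : ∀ x y, B (f x) (f y) = ω x y) : Emb B ω where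
  incl := f
  proj := (LinearMap.BilinForm.toDual ω.flip hω.flip).symm.toLinearMap ∘ₗ (B.compl₁₂ f LinearMap.id).flip
  isom := hf
  proj_incl x := by
    simp only [LinearMap.comp_apply, LinearEquiv.coe_coe]
    rw [LinearEquiv.symm_apply_eq]
    refine LinearMap.ext fun y => ?_
    rw [LinearMap.BilinForm.toDual_def]
    exact hf y x
  perp x v := by
    rw [map_sub, hf, sub_eq_zero]
    exact ((LinearMap.BilinForm.apply_toDual_symm_apply (hB := hω.flip)
      ((B.compl₁₂ f LinearMap.id).flip v) x)).symm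

variable (E : Emb B ω)

/-- extension of a linear map by the identity on the orthogonal complement -/
def Emb.extFun (a : W →ₗ[F] W) : V →ₗ[F] V :=
  LinearMap.id + E.incl ∘ₗ (a - LinearMap.id) ∘ₗ E.proj

theorem Emb.extFun_apply (a : W →ₗ[F] W) (v : V) :
    E.extFun a v = v + E.incl (a (E.proj v) - E.proj v) := rfl

theorem Emb.extFun_comp (a b : W →ₗ[F] W) (v : V) :
    E.extFun a (E.extFun b v) = E.extFun (a ∘ₗ b) v := by
  simp only [E.extFun_apply, map_add, map_sub, E.proj_incl, LinearMap.comp_apply]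
  abel

/-- extension as an automorphism -/
def Emb.ext : (W ≃ₗ[F] W) →* (V ≃ₗ[F] V) where
  toFun a := LinearEquiv.ofLinear (E.extFun a) (E.extFun a.symm)
    (LinearMap.ext fun v => by rw [LinearMap.comp_apply, E.extFun_comp]; simp [E.extFun_apply])
    (LinearMap.ext fun v => by rw [LinearMap.comp_apply, E.extFun_comp]; simp [E.extFun_apply])
  map_one' := LinearEquiv.ext fun v => by simp [E.extFun_apply]
  map_mul' a b := LinearEquiv.ext fun v => by
    simp only [LinearEquiv.mul_apply, LinearEquiv.ofLinear_apply, E.extFun_comp]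
    rfl

theorem Emb.ext_apply (a : W ≃ₗ[F] W) (v : V) :
    E.ext a v = v + E.incl (a (E.proj v) - E.proj v) := rfl

theorem Emb.ext_incl (a : W ≃ₗ[F] W) (x : W) : E.ext a (E.incl x) = E.incl (a x) := by
  rw [E.ext_apply, E.proj_incl, map_sub, add_sub_cancel]

theorem Emb.ext_isom (hA : B.IsAlt) {a : W ≃ₗ[F] W} (ha : Isom ω a) : Isom B (E.ext a) := by
  have hp' : ∀ x v, B (v - E.incl (E.proj v)) (E.incl x) = 0 := fun x v => hA.isRefl _ _ (E.perp x v)
  have key : ∀ v, E.ext a v = (v - E.incl (E.proj v)) + E.incl (a (E.proj v)) := by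
    intro v; rw [E.ext_apply, map_sub]; abel
  intro x y
  rw [key, key]
  conv_rhs => rw [← sub_add_cancel x (E.incl (E.proj x)), ← sub_add_cancel y (E.incl (E.proj y))]
  simp only [map_add, LinearMap.add_apply, E.perp, hp', E.isom, ha _ _]

theorem Emb.ext_fix (a : W ≃ₗ[F] W) {v : V} (hv : v ∈ B.orthogonal (LinearMap.range E.incl))
    (hω : ω.Nondegenerate) : E.ext a v = v := by
  have h : E.proj v = 0 := hω.2 _ fun x => by
    have h1 := E.perp x v
    rw [map_sub, hv _ ⟨x, rfl⟩, E.isom, zero_sub, neg_eq_zero] at h1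
    exact h1
  rw [E.ext_apply, h]
  simp

theorem comOn_of_emb (hA : B.IsAlt) (hω : ω.Nondegenerate) {g : V ≃ₗ[F] V} {g₀ a b : W ≃ₗ[F] W}
    (ha : Isom ω a) (hb : Isom ω b) (h : ∀ x, g (E.incl x) = E.incl (g₀ x))
    (hc : g₀ = a * b * a⁻¹ * b⁻¹) : ComOn B g (LinearMap.range E.incl) := by
  refine ⟨E.ext a, E.ext b, E.ext_isom hA ha, E.ext_isom hA hb,
    fun v hv => ⟨E.ext_fix a hv hω, E.ext_fix b hv hω⟩, ?_, ?_⟩
  · rintro _ ⟨x, rfl⟩
    exact ⟨⟨a x, (E.ext_incl a x).symm⟩, ⟨b x, (E.ext_incl b x).symm⟩⟩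
  · rintro _ ⟨x, rfl⟩
    rw [h, hc, ← map_inv, ← map_inv, ← map_mul, ← map_mul, ← map_mul, E.ext_incl]

end Emb

section Frame

variable {ι : Type*} [Fintype ι] [DecidableEq ι]

/-- the standard form -/
noncomputable def jForm (ι : Type*) [Fintype ι] [DecidableEq ι] (F : Type*) [Field F] :
    LinearMap.BilinForm F (ι ⊕ ι → F) :=
  Matrix.toBilin' (J ι F)

theorem jForm_nd : (jForm ι F).Nondegenerate :=
  LinearMap.BilinForm.nondegenerate_toBilin'_of_det_ne_zero' _ (isUnit_det_J ι F).ne_zero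

theorem jForm_isom_iff {G : Matrix (ι ⊕ ι) (ι ⊕ ι) F} :
    G ∈ Matrix.symplecticGroup ι F ↔ ∀ x y, jForm ι F (G *ᵥ x) (G *ᵥ y) = jForm ι F x y := by
  have h : ∀ x y, jForm ι F (G *ᵥ x) (G *ᵥ y) = Matrix.toBilin' (Gᵀ * J ι F * G) x y := by
    intro x y
    rw [jForm, Matrix.toBilin'_apply', Matrix.toBilin'_apply', ← Matrix.mulVec_mulVec,
      ← Matrix.mulVec_mulVec, Matrix.dotProduct_mulVec x Gᵀ, Matrix.vecMul_transpose]
  rw [SymplecticGroup.mem_iff']
  constructor
  · intro hG x y; rw [h, hG]; rfl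
  · intro hG
    apply Matrix.toBilin'.injective
    refine LinearMap.ext fun x => LinearMap.ext fun y => ?_
    rw [← h]
    exact hG x y

/-- a symplectic matrix as an isometry -/
noncomputable def toIso : Matrix.symplecticGroup ι F →* ((ι ⊕ ι → F) ≃ₗ[F] (ι ⊕ ι → F)) where
  toFun G := LinearEquiv.ofLinear (Matrix.toLin' G.1) (Matrix.toLin' (G⁻¹).1)
    (by rw [← Matrix.toLin'_mul, ← Submonoid.coe_mul, mul_inv_cancel, Submonoid.coe_one, Matrix.toLin'_one])
    (by rw [← Matrix.toLin'_mul, ← Submonoid.coe_mul, inv_mul_cancel, Submonoid.coe_one, Matrix.toLin'_one])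
  map_one' := LinearEquiv.ext fun v => by simp
  map_mul' G H := LinearEquiv.ext fun v => by simp [Matrix.mulVec_mulVec]

theorem toIso_isom (G : Matrix.symplecticGroup ι F) : Isom (jForm ι F) (toIso G) :=
  jForm_isom_iff.1 G.2

/-- the map of a symplectic frame -/
def frameMap (e f : ι → V) : (ι ⊕ ι → F) →ₗ[F] V where
  toFun x := (∑ i, x (Sum.inl i) • e i) + ∑ i, x (Sum.inr i) • f i
  map_add' x y := by simp only [Pi.add_apply, add_smul, Finset.sum_add_distrib]; abel
  map_smul' c x := by simp [smul_add, Finset.smul_sum, smul_smul]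

theorem frameMap_inl (e f : ι → V) (j : ι) :
    frameMap (F := F) e f (Pi.single (Sum.inl j) 1) = e j := by
  simp [frameMap, Pi.single_apply, ite_smul]

theorem frameMap_inr (e f : ι → V) (j : ι) :
    frameMap (F := F) e f (Pi.single (Sum.inr j) 1) = f j := by
  simp [frameMap, Pi.single_apply, ite_smul]

theorem frameMap_isom (hA : B.IsAlt) {e f : ι → V} (hee : ∀ i j, B (e i) (e j) = 0)
    (hff : ∀ i j, B (f i) (f j) = 0) (hfe : ∀ i j, B (f i) (e j) = if i = j then 1 else 0) :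
    ∀ x y, B (frameMap e f x) (frameMap e f y) = jForm ι F x y := by
  have h : B.compl₁₂ (frameMap e f) (frameMap e f) = jForm ι F := by
    refine LinearMap.BilinForm.ext_basis (Pi.basisFun F (ι ⊕ ι)) fun i j => ?_
    simp only [Pi.basisFun_apply, LinearMap.compl₁₂_apply]
    rcases i with i | i <;> rcases j with j | j <;>
      simp [frameMap_inl, frameMap_inr, jForm, hee, hff, hfe, J,
        Matrix.one_apply, alt_swap hA (e i), eq_comm]
  intro x y
  rw [← h]
  rfl

theorem comOn_of_frame [Finite F] (hA : B.IsAlt) {g : V ≃ₗ[F] V} (hg : Isom B g) {e f : ι → V}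
    (hee : ∀ i j, B (e i) (e j) = 0) (hff : ∀ i j, B (f i) (f j) = 0)
    (hfe : ∀ i j, B (f i) (e j) = if i = j then 1 else 0) {U : Submodule F V}
    (hU : U = Submodule.span F (Set.range e ∪ Set.range f)) (hgU : ∀ v ∈ U, g v ∈ U)
    {A P : Matrix ι ι F} (hAd : A.det ≠ 0) (hPd : P.det ≠ 0) (hG : Good A)
    (hM : ∀ j, g (e j) - ∑ i, (A * (P * A⁻¹ * P⁻¹)) i j • e i ∈ Submodule.span F (Set.range f)) :
    ComOn B g U := by
  classical
  set E := Emb.mk' (B := B) jForm_nd (frameMap e f) (frameMap_isom hA hee hff hfe) with hE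
  have hincl : E.incl = frameMap e f := rfl
  have hrange : LinearMap.range E.incl = U := by
    rw [hincl, hU]
    apply le_antisymm
    · rintro _ ⟨x, rfl⟩
      refine add_mem (sum_mem fun i _ => Submodule.smul_mem _ _ (Submodule.subset_span (Or.inl ⟨i, rfl⟩)))
        (sum_mem fun i _ => Submodule.smul_mem _ _ (Submodule.subset_span (Or.inr ⟨i, rfl⟩)))
    · rw [Submodule.span_le]
      rintro _ (⟨i, rfl⟩ | ⟨i, rfl⟩)
      · exact ⟨_, frameMap_inl e f i⟩
      · exact ⟨_, frameMap_inr e f i⟩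
  set G := LinearMap.toMatrix' (E.proj ∘ₗ g.toLinearMap ∘ₗ E.incl) with hG'
  have hact : ∀ x, E.incl (G *ᵥ x) = g (E.incl x) := by
    intro x
    rw [hG', LinearMap.toMatrix'_mulVec]
    obtain ⟨z, hz⟩ : g (E.incl x) ∈ LinearMap.range E.incl := by
      rw [hrange]; exact hgU _ (hrange ▸ LinearMap.mem_range_self _ x)
    show E.incl (E.proj (g (E.incl x))) = g (E.incl x)
    rw [← hz, E.proj_incl]
  have hmem : G ∈ Matrix.symplecticGroup ι F := jForm_isom_iff.2 fun x y => by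
    rw [← E.isom, ← E.isom, hact, hact, hg]
  obtain ⟨u, v, huv⟩ := commutator_of_block ⟨G, hmem⟩ hAd hPd hG (by
    ext i j
    show G (Sum.inl i) (Sum.inl j) = _
    rw [hG', LinearMap.toMatrix'_apply]
    obtain ⟨c, hc⟩ := (Submodule.mem_span_range_iff_exists_fun F).1 (hM j)
    set z : ι ⊕ ι → F := Sum.elim (fun i => (A * (P * A⁻¹ * P⁻¹)) i j) c with hz
    have hzj : g (E.incl (Pi.single (Sum.inl j) 1)) = E.incl z := by
      rw [hincl, frameMap_inl]
      show _ = (∑ i, z (Sum.inl i) • e i) + ∑ i, z (Sum.inr i) • f i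
      simp only [hz, Sum.elim_inl, Sum.elim_inr]
      rw [hc, add_sub_cancel]
    simp only [LinearMap.comp_apply, LinearEquiv.coe_coe]
    rw [hzj, E.proj_incl, hz, Sum.elim_inl])
  rw [← hrange]
  refine comOn_of_emb E hA jForm_nd (g₀ := toIso ⟨G, hmem⟩) (toIso_isom u) (toIso_isom v) (fun x => ?_) ?_
  · show g (E.incl x) = E.incl (G *ᵥ x)
    rw [hact]
  · rw [huv]; simp only [map_mul, map_inv]

end Frame

section Lagrangian

variable [FiniteDimensional F V]

/-- Lagrangian subspace of `U` -/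
def Lagr (B : LinearMap.BilinForm F V) (U W : Submodule F V) : Prop :=
  W ≤ U ∧ Perp B W W ∧ B.orthogonal W ⊓ U ≤ W

theorem exists_complement (hA : B.IsAlt) {U W X : Submodule F V}
    (hW : Lagr B U W) (hX : Perp B X X) (hXU : X ≤ U) (hXW : Disjoint W X) :
    ∃ W' : Submodule F V, X ≤ W' ∧ W' ≤ U ∧ Perp B W' W' ∧ Disjoint W W' ∧ U ≤ W ⊔ W' := by
  obtain ⟨W', ⟨h1, h2, h3, h4⟩, hmax⟩ := set_has_maximal_iff_noetherian.2
    (inferInstance : IsNoetherian F V) {Y | X ≤ Y ∧ Y ≤ U ∧ Perp B Y Y ∧ Disjoint W Y}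
    ⟨X, le_rfl, hXU, hX, hXW⟩
  refine ⟨W', h1, h2, h3, h4, ?_⟩
  have hinc : B.orthogonal W' ⊓ U ≤ W ⊔ W' := by
    intro v hv
    by_contra hvn
    refine hmax (W' ⊔ Submodule.span F {v}) ⟨h1.trans le_sup_left,
      sup_le h2 ((Submodule.span_singleton_le_iff_mem _ _).2 hv.2), ?_, ?_⟩
      (lt_of_le_not_ge le_sup_left fun hle =>
        hvn (Submodule.mem_sup_right ((sup_le_iff.1 hle).2 (Submodule.mem_span_singleton_self v))))
    · intro x hx y hy
      obtain ⟨x₁, hx₁, x₂, hx₂, rfl⟩ := Submodule.mem_sup.1 hx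
      obtain ⟨y₁, hy₁, y₂, hy₂, rfl⟩ := Submodule.mem_sup.1 hy
      obtain ⟨c, rfl⟩ := Submodule.mem_span_singleton.1 hx₂
      obtain ⟨d, rfl⟩ := Submodule.mem_span_singleton.1 hy₂
      have e1 : B x₁ v = 0 := hv.1 x₁ hx₁
      have e2 : B v y₁ = 0 := hA.isRefl _ _ (hv.1 y₁ hy₁)
      have e3 : B v v = 0 := hA v
      simp [h3 x₁ hx₁ y₁ hy₁, e1, e2, e3]
    · rw [Submodule.disjoint_def]
      intro z hzW hz
      obtain ⟨x₁, hx₁, x₂, hx₂, rfl⟩ := Submodule.mem_sup.1 hz
      obtain ⟨c, rfl⟩ := Submodule.mem_span_singleton.1 hx₂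
      by_cases hc : c = 0
      · subst hc
        simp only [zero_smul, add_zero] at hzW ⊢
        exact Submodule.disjoint_def.1 h4 x₁ hzW hx₁
      · exfalso
        apply hvn
        have : c • v ∈ W ⊔ W' := by
          rw [show c • v = (x₁ + c • v) - x₁ by abel]
          exact sub_mem (Submodule.mem_sup_left hzW) (Submodule.mem_sup_right hx₁)
        simpa [smul_smul, inv_mul_cancel₀ hc] using Submodule.smul_mem _ c⁻¹ this
  intro u hu
  let φ : W →ₗ[F] Module.Dual F W' := B.compl₁₂ W.subtype W'.subtype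
  have hinj : Function.Injective φ.flip := by
    rw [injective_iff_map_eq_zero]
    intro y hy
    have hyW : (y : V) ∈ W := hW.2.2 ⟨fun w hw => LinearMap.congr_fun hy ⟨w, hw⟩, h2 y.2⟩
    exact Subtype.ext (Submodule.disjoint_def.1 h4 _ hyW y.2)
  obtain ⟨ψ, hψ⟩ := LinearMap.dualMap_surjective_of_injective hinj ((B u).comp W'.subtype)
  obtain ⟨w, rfl⟩ := (Module.evalEquiv F W).surjective ψ
  have hw : ∀ y ∈ W', B (w : V) y = B u y := by
    intro y hy
    have := LinearMap.congr_fun hψ ⟨y, hy⟩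
    simpa [φ] using this
  have : u - w ∈ W ⊔ W' := hinc ⟨fun y hy => by
    apply hA.isRefl
    rw [map_sub, LinearMap.sub_apply, hw y hy, sub_self], sub_mem hu (hW.1 w.2)⟩
  simpa using add_mem this (Submodule.mem_sup_left (T := W') w.2)

theorem finrank_complement (hA : B.IsAlt) {U W W' : Submodule F V} (hU : Nd B U)
    (hW : Lagr B U W) (h2 : W' ≤ U) (h4 : Disjoint W W') (h5 : U ≤ W ⊔ W') :
    finrank F W' = finrank F W ∧ finrank F U = 2 * finrank F W := by
  let φ : W' →ₗ[F] Module.Dual F W := B.compl₁₂ W'.subtype W.subtype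
  have hinj : Function.Injective φ := by
    rw [injective_iff_map_eq_zero]
    intro y hy
    have hyW : (y : V) ∈ W := hW.2.2 ⟨fun w hw => hA.isRefl _ _ (LinearMap.congr_fun hy ⟨w, hw⟩), h2 y.2⟩
    exact Subtype.ext (Submodule.disjoint_def.1 h4 _ hyW y.2)
  have hinj' : Function.Injective φ.flip := by
    rw [injective_iff_map_eq_zero]
    intro w hw
    refine Subtype.ext (hU.eq_zero (hW.1 w.2) fun x hx => ?_)
    obtain ⟨a, ha, b, hb, rfl⟩ := Submodule.mem_sup.1 (h5 hx)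
    have e : B b (w : V) = 0 := LinearMap.congr_fun hw ⟨b, hb⟩
    rw [map_add, LinearMap.add_apply, hW.2.1 a ha w w.2, e, add_zero]
  have l1 := LinearMap.finrank_le_finrank_of_injective hinj
  have l2 := LinearMap.finrank_le_finrank_of_injective hinj'
  rw [Subspace.dual_finrank_eq] at l1 l2
  have hsum := Submodule.finrank_sup_add_finrank_inf_eq W W'
  rw [h4.eq_bot, finrank_bot, le_antisymm (sup_le hW.1 h2) h5] at hsum
  omega

theorem comOn_of_lagr [Finite F] (hA : B.IsAlt) {g : V ≃ₗ[F] V} (hg : Isom B g)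
    {U W : Submodule F V} (hU : Nd B U) (hgU : ∀ v ∈ U, g v ∈ U) (hW : Lagr B U W)
    {ι : Type*} [Fintype ι] [DecidableEq ι] (b : Basis ι F W) {A P : Matrix ι ι F}
    (hAd : A.det ≠ 0) (hPd : P.det ≠ 0) (hG : Good A) (m : W →ₗ[F] W)
    (hm : LinearMap.toMatrix b b m = A * (P * A⁻¹ * P⁻¹))
    (hsym : ∀ w w' : W, B (m w : V) (g w') = B (m w' : V) (g w))
    (hfix : ∀ w : W, g (w : V) ∈ W → g (w : V) = (m w : V)) : ComOn B g U := by
  classical
  let δ : W →ₗ[F] V := g.toLinearMap ∘ₗ W.subtype - W.subtype ∘ₗ m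
  have hδ : ∀ w : W, δ w = g (w : V) - (m w : V) := fun w => rfl
  obtain ⟨W', hX, h2, h3, h4, h5⟩ := exists_complement hA hW (X := LinearMap.range δ) (by
      rintro _ ⟨x, rfl⟩ _ ⟨y, rfl⟩
      rw [hδ, hδ]
      simp only [map_sub, LinearMap.sub_apply]
      rw [hg, hW.2.1 x x.2 y y.2, hW.2.1 _ (m x).2 _ (m y).2, alt_swap hA (g (x : V)), hsym x y]
      ring) (by
      rintro _ ⟨x, rfl⟩
      exact sub_mem (hgU _ (hW.1 x.2)) (hW.1 (m x).2)) (by
      rw [Submodule.disjoint_def]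
      rintro _ hz ⟨x, rfl⟩
      rw [hδ] at hz ⊢
      have : g (x : V) ∈ W := by simpa using add_mem hz (m x).2
      rw [hfix x this, sub_self])
  obtain ⟨hd', hdU⟩ := finrank_complement hA hU hW h2 h4 h5
  let ψ : W' →ₗ[F] (ι → F) :=
    LinearMap.pi fun j => (B.flip (b j : V)).comp W'.subtype
  have hψ : Function.Injective ψ := by
    rw [injective_iff_map_eq_zero]
    intro y hy
    have hyW : (y : V) ∈ W := hW.2.2 ⟨fun w hw => by
      have h0 : B.compl₁₂ W'.subtype W.subtype y = 0 := b.ext fun j => congrFun hy j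
      exact hA.isRefl _ _ (LinearMap.congr_fun h0 ⟨w, hw⟩), h2 y.2⟩
    exact Subtype.ext (Submodule.disjoint_def.1 h4 _ hyW y.2)
  have hsurj : Function.Surjective ψ := (LinearMap.injective_iff_surjective_of_finrank_eq_finrank (by
    rw [hd', finrank_eq_card_basis b, Module.finrank_pi])).1 hψ
  choose f hf using fun i : ι => hsurj (Pi.single i 1)
  have hfspan : W' ≤ Submodule.span F (Set.range fun i => (f i : V)) := by
    intro y hy
    have : (⟨y, hy⟩ : W') = ∑ i, ψ ⟨y, hy⟩ i • f i := hψ (by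
      rw [map_sum]; funext j; simp [hf, Finset.sum_apply, Pi.single_apply])
    rw [show y = ∑ i, ψ ⟨y, hy⟩ i • (f i : V) by
      conv_lhs => rw [show y = ((⟨y, hy⟩ : W') : V) from rfl, this]
      simp]
    exact sum_mem fun i _ => Submodule.smul_mem _ _ (Submodule.subset_span ⟨i, rfl⟩)
  refine comOn_of_frame hA hg (e := fun i => (b i : V)) (f := fun i => (f i : V))
    (fun i j => hW.2.1 _ (b i).2 _ (b j).2) (fun i j => h3 _ (f i).2 _ (f j).2) ?_ ?_ hgU hAd hPd hG ?_
  · intro i j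
    have h := congrFun (hf i) j
    simp only [ψ, Pi.single_apply] at h
    simp only [eq_comm (a := i)]
    exact h
  · apply le_antisymm
    · intro x hx
      obtain ⟨w, hw, y, hy, rfl⟩ := Submodule.mem_sup.1 (h5 hx)
      refine add_mem ?_ (Submodule.span_mono Set.subset_union_right (hfspan hy))
      rw [show w = ((⟨w, hw⟩ : W) : V) from rfl, ← b.sum_repr ⟨w, hw⟩]
      simp only [Submodule.coe_sum, Submodule.coe_smul]
      exact sum_mem fun i _ => Submodule.smul_mem _ _ (Submodule.subset_span (Or.inl ⟨i, rfl⟩))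
    · rw [Submodule.span_le]
      rintro _ (⟨i, rfl⟩ | ⟨i, rfl⟩)
      · exact hW.1 (b i).2
      · exact h2 (f i).2
  · intro j
    rw [← hm]
    have : ∑ i, LinearMap.toMatrix b b m i j • (b i : V) = (m (b j) : V) := by
      have h := congrArg W.subtype (b.sum_repr (m (b j)))
      simp only [map_sum, map_smul, Submodule.subtype_apply] at h
      simpa [LinearMap.toMatrix_apply] using h
    rw [this]
    exact hfspan (hX ⟨b j, rfl⟩)

/-- `g` on `U` is lower times upper unipotent -/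
def PL (B : LinearMap.BilinForm F V) (g : V ≃ₗ[F] V) (U : Submodule F V) : Prop :=
  ∃ W : Submodule F V, Lagr B U W ∧ (∀ w ∈ W, ∀ w' ∈ W, B w (g w') = B w' (g w)) ∧
    ∀ w ∈ W, g w ∈ W → g w = w

theorem PL.bot (g : V ≃ₗ[F] V) : PL B g ⊥ :=
  ⟨⊥, ⟨le_rfl, fun x hx y _ => by rw [(Submodule.mem_bot F).1 hx]; simp, inf_le_right⟩,
    fun w hw w' hw' => by rw [(Submodule.mem_bot F).1 hw, (Submodule.mem_bot F).1 hw'],
    fun w hw _ => by rw [(Submodule.mem_bot F).1 hw]; simp⟩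

theorem Perp.disjoint {U U' : Submodule F V} (hU' : Nd B U') (hp : Perp B U U')
    (hA : B.IsAlt) : Disjoint U U' :=
  Submodule.disjoint_def.2 fun x hx hx' => hU'.eq_zero hx' fun y hy => (hp.symm hA) y hy x hx

theorem PL.sup (hA : B.IsAlt) {g : V ≃ₗ[F] V} {U U' : Submodule F V}
    (hU' : Nd B U') (hgU : ∀ v ∈ U, g v ∈ U) (hgU' : ∀ v ∈ U', g v ∈ U') (hp : Perp B U U')
    (h : PL B g U) (h' : PL B g U') : PL B g (U ⊔ U') := by
  obtain ⟨W, ⟨hWU, hWp, hWm⟩, hs, hf⟩ := h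
  obtain ⟨W', ⟨hWU', hWp', hWm'⟩, hs', hf'⟩ := h'
  have hd := hp.disjoint hU' hA
  refine ⟨W ⊔ W', ⟨sup_le_sup hWU hWU', ?_, ?_⟩, ?_, ?_⟩
  · intro x hx y hy
    obtain ⟨a, ha, a', ha', rfl⟩ := Submodule.mem_sup.1 hx
    obtain ⟨c, hc, c', hc', rfl⟩ := Submodule.mem_sup.1 hy
    simp [hWp a ha c hc, hWp' a' ha' c' hc', hp a (hWU ha) c' (hWU' hc'),
      (hp.symm hA) a' (hWU' ha') c (hWU hc)]
  · rintro z ⟨ho, hz⟩
    obtain ⟨u, hu, u', hu', rfl⟩ := Submodule.mem_sup.1 hz
    refine Submodule.add_mem_sup (hWm ⟨fun w hw => ?_, hu⟩) (hWm' ⟨fun w hw => ?_, hu'⟩)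
    · have := ho w (Submodule.mem_sup_left hw)
      rwa [map_add, hp w (hWU hw) u' hu', add_zero] at this
    · have := ho w (Submodule.mem_sup_right hw)
      rwa [map_add, (hp.symm hA) w (hWU' hw) u hu, zero_add] at this
  · intro x hx y hy
    obtain ⟨a, ha, a', ha', rfl⟩ := Submodule.mem_sup.1 hx
    obtain ⟨c, hc, c', hc', rfl⟩ := Submodule.mem_sup.1 hy
    simp [hs a ha c hc, hs' a' ha' c' hc', hp a (hWU ha) _ (hgU' _ (hWU' hc')),
      hp c (hWU hc) _ (hgU' _ (hWU' ha')), (hp.symm hA) a' (hWU' ha') _ (hgU _ (hWU hc)),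
      (hp.symm hA) c' (hWU' hc') _ (hgU _ (hWU ha))]
  · intro x hx hgx
    obtain ⟨a, ha, a', ha', rfl⟩ := Submodule.mem_sup.1 hx
    obtain ⟨c, hc, c', hc', he⟩ := Submodule.mem_sup.1 hgx
    rw [map_add] at he ⊢
    have h0 : c - g a = g a' - c' := by
      linear_combination (norm := abel) he
    have hz : c - g a ∈ U ⊓ U' :=
      ⟨sub_mem (hWU hc) (hgU _ (hWU ha)), h0 ▸ sub_mem (hgU' _ (hWU' ha')) (hWU' hc')⟩
    rw [hd.eq_bot, Submodule.mem_bot] at hz
    rw [hz] at h0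
    rw [hf a ha (sub_eq_zero.1 hz ▸ hc), hf' a' ha' ((sub_eq_zero.1 h0.symm).symm ▸ hc')]

theorem PL.comOn [Finite F] (hA : B.IsAlt) {g : V ≃ₗ[F] V} (hg : Isom B g) {U : Submodule F V}
    (hU : Nd B U) (hgU : ∀ v ∈ U, g v ∈ U) (h : PL B g U)
    (hgood : ∀ k : ℕ, finrank F U = 2 * k → k ≠ 0 →
      ∃ A : Matrix (Fin k) (Fin k) F, A.det ≠ 0 ∧ Good A) : ComOn B g U := by
  classical
  obtain ⟨W, hW, hs, hf⟩ := h
  obtain ⟨W', -, h2, -, h4, h5⟩ := exists_complement hA hW (X := ⊥)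
    (fun x hx y _ => by rw [(Submodule.mem_bot F).1 hx]; simp) bot_le disjoint_bot_right
  obtain ⟨-, hd⟩ := finrank_complement hA hU hW h2 h4 h5
  by_cases h0 : finrank F W = 0
  · rw [h0, mul_zero] at hd
    rw [Submodule.finrank_eq_zero.1 hd]
    exact ComOn.bot g
  obtain ⟨A, hAd, hG⟩ := hgood _ hd h0
  refine comOn_of_lagr hA hg hU hgU hW (finBasis F W) (A := A) (P := 1) hAd (by simp) hG LinearMap.id
    ?_ (fun w w' => hs w w.2 w' w'.2) (fun w hw => hf w w.2 hw)
  rw [LinearMap.toMatrix_id, inv_one, Matrix.one_mul, Matrix.mul_one, mul_nonsing_inv A (det_unit hAd)]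

end Lagrangian

end CfsgLib.OreSp
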