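import Cfsg.Agent.Lib.OreSp.Uni

/-!
Minus an indecomposable unipotent isometry with odd block size is a commutator, by the tensor model.
-/

set_option autoImplicit false

namespace CfsgLib.OreSp

open Module

theorem ring_commutator {R : Type*} [Ring R] {X0 J Si H Hi G : R}
    (a1 : X0 * J = -(J * X0)) (a2 : Si * X0 = X0 * Si) (a3 : Si * H = Hi * Si)
    (a4 : H * J = J * H) (a5 : H * X0 = X0 * H) (a6 : G * J = J * G) (a7 : G * X0 = X0 * G)
    (a8 : G * Hi = H) : (-G) * (J * Si * (X0 * H)) = X0 * H * (J * Si) := by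
  have e1 : J * Si * (X0 * H) = J * X0 * Hi * Si := by
    simp only [mul_assoc]
    rw [← mul_assoc Si X0, a2, mul_assoc X0 Si, a3]
  have e2 : X0 * H * (J * Si) = -(J * X0 * H * Si) := by
    rw [← mul_assoc, mul_assoc X0 H J, a4, ← mul_assoc, a1, neg_mul, neg_mul]
  rw [e1, e2, neg_mul, neg_inj]
  simp only [← mul_assoc]
  rw [a6, mul_assoc J G X0, a7, ← mul_assoc, mul_assoc (J * X0) G Hi, a8]

variable {F : Type*} [Field F] {V : Type*} [AddCommGroup V] [Module F V] [FiniteDimensional F V]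
variable {B : LinearMap.BilinForm F V}

/-- a form-preserving linear map is an automorphism -/
noncomputable def ofForm (hN : B.Nondegenerate) (f : V →ₗ[F] V) (hf : ∀ x y, B (f x) (f y) = B x y) :
    V ≃ₗ[F] V :=
  LinearEquiv.ofInjectiveEndo f (by
    rw [injective_iff_map_eq_zero]
    intro x hx
    refine hN.1 x fun y => ?_
    rw [← hf, hx, map_zero, LinearMap.zero_apply])

theorem ofForm_apply (hN : B.Nondegenerate) (f : V →ₗ[F] V) (hf : ∀ x y, B (f x) (f y) = B x y)
    (x : V) : ofForm hN f hf x = f x := rfl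

theorem compl₁₂_ext {ι : Type*} (b : Basis ι F V) (c : F) (f : V →ₗ[F] V)
    (h : ∀ i j, B (f (b i)) (f (b j)) = c * B (b i) (b j)) (x y : V) : B (f x) (f y) = c * B x y := by
  have : B.compl₁₂ f f = c • B := LinearMap.BilinForm.ext_basis b fun i j => by
    simpa using h i j
  have := LinearMap.congr_fun₂ this x y
  simpa using this

variable (β : Bi B)

/-- the reversal -/
noncomputable def Bi.sigma : Module.End F V :=
  β.basis.constr F (Sum.elim (fun i => (β.N' ^ (i : ℕ)) β.v) (fun i => (β.N' ^ (i : ℕ)) β.u))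

theorem Bi.sigma_v (i : ℕ) : β.sigma ((β.N ^ i) β.v) = (β.N' ^ i) β.v := by
  by_cases h : i < β.e
  · rw [show (β.N ^ i) β.v = β.basis (Sum.inl ⟨i, h⟩) by rw [β.basis_apply]; rfl, Bi.sigma,
      Basis.constr_basis]
    rfl
  · rw [β.N_pow_ge (by omega), β.N'_pow_ge (by omega)]; simp

theorem Bi.sigma_u (i : ℕ) : β.sigma ((β.N ^ i) β.u) = (β.N' ^ i) β.u := by
  by_cases h : i < β.e
  · rw [show (β.N ^ i) β.u = β.basis (Sum.inr ⟨i, h⟩) by rw [β.basis_apply]; rfl, Bi.sigma,
      Basis.constr_basis]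
    rfl
  · rw [β.N_pow_ge (by omega), β.N'_pow_ge (by omega)]; simp

theorem Bi.end_ext {f f' : Module.End F V} (hv : ∀ i, f ((β.N ^ i) β.v) = f' ((β.N ^ i) β.v))
    (hu : ∀ i, f ((β.N ^ i) β.u) = f' ((β.N ^ i) β.u)) : f = f' := by
  refine β.basis.ext fun i => ?_
  rw [β.basis_apply]
  rcases i with i | i
  · exact hv i
  · exact hu i

theorem Bi.sigma_N : β.sigma * β.N = β.N' * β.sigma := by
  refine β.end_ext (fun i => ?_) fun i => ?_
  · rw [Module.End.mul_apply, Module.End.mul_apply, ← Module.End.mul_apply β.N, ← pow_succ',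
      β.sigma_v, β.sigma_v, ← Module.End.mul_apply β.N', ← pow_succ']
  · rw [Module.End.mul_apply, Module.End.mul_apply, ← Module.End.mul_apply β.N, ← pow_succ',
      β.sigma_u, β.sigma_u, ← Module.End.mul_apply β.N', ← pow_succ']

theorem Bi.sigma_T : β.sigma * β.T = β.Ti * β.sigma := by
  have h := β.sigma_N
  simp only [Bi.N, Bi.N', mul_sub, sub_mul, mul_one, one_mul, sub_left_inj] at h
  exact h

theorem Bi.sigma_Ti : β.sigma * β.Ti = β.T * β.sigma := by
  calc β.sigma * β.Ti = β.T * β.Ti * β.sigma * β.Ti := by rw [β.T_Ti, one_mul]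
    _ = β.T * (β.sigma * β.T) * β.Ti := by rw [β.sigma_T, mul_assoc β.T]
    _ = β.T * β.sigma := by rw [mul_assoc, mul_assoc β.sigma, β.T_Ti, mul_one]

theorem Bi.sigma_N' : β.sigma * β.N' = β.N * β.sigma := by
  simp only [Bi.N, Bi.N', mul_sub, sub_mul, mul_one, one_mul, β.sigma_Ti]

theorem Bi.sigma_mul_N'_pow : ∀ (i : ℕ) (x : V), β.sigma ((β.N' ^ i) x) = (β.N ^ i) (β.sigma x)
  | 0, x => rfl
  | i + 1, x => by
    rw [pow_succ', pow_succ', Module.End.mul_apply, ← Module.End.mul_apply β.sigma, β.sigma_N',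
      Module.End.mul_apply, Bi.sigma_mul_N'_pow i, ← Module.End.mul_apply]

theorem Bi.sigma_mul_N_pow : ∀ (i : ℕ) (x : V), β.sigma ((β.N ^ i) x) = (β.N' ^ i) (β.sigma x)
  | 0, x => rfl
  | i + 1, x => by
    rw [pow_succ', pow_succ', Module.End.mul_apply, ← Module.End.mul_apply β.sigma, β.sigma_N,
      Module.End.mul_apply, Bi.sigma_mul_N_pow i, ← Module.End.mul_apply]

theorem Bi.sigma_gen : β.sigma β.v = β.v ∧ β.sigma β.u = β.u :=
  ⟨by simpa using β.sigma_v 0, by simpa using β.sigma_u 0⟩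

theorem Bi.sigma_sq : β.sigma * β.sigma = 1 := by
  refine β.end_ext (fun i => ?_) fun i => ?_
  · rw [Module.End.mul_apply, β.sigma_v, β.sigma_mul_N'_pow, β.sigma_gen.1]; rfl
  · rw [Module.End.mul_apply, β.sigma_u, β.sigma_mul_N'_pow, β.sigma_gen.2]; rfl

theorem Bi.N'_pow_top (hodd : Odd β.e) : β.N' ^ (β.e - 1) = β.N ^ (β.e - 1) := by
  obtain ⟨k, hk⟩ := hodd
  rw [β.N'_pow, β.Ti_pow_top, Even.neg_one_pow ⟨k, by omega⟩, one_smul]

/-- the quarter turn -/
noncomputable def Bi.X0 : Module.End F V :=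
  β.basis.constr F (Sum.elim (fun i => (β.N ^ (i : ℕ)) β.u) (fun i => -(β.N ^ (i : ℕ)) β.v))

/-- the sign change -/
noncomputable def Bi.D : Module.End F V :=
  β.basis.constr F (Sum.elim (fun i => (β.N ^ (i : ℕ)) β.v) (fun i => -(β.N ^ (i : ℕ)) β.u))

theorem Bi.X0_v (i : ℕ) : β.X0 ((β.N ^ i) β.v) = (β.N ^ i) β.u := by
  by_cases h : i < β.e
  · rw [show (β.N ^ i) β.v = β.basis (Sum.inl ⟨i, h⟩) by rw [β.basis_apply]; rfl, Bi.X0,
      Basis.constr_basis]
    rfl
  · rw [β.N_pow_ge (by omega)]; simp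

theorem Bi.X0_u (i : ℕ) : β.X0 ((β.N ^ i) β.u) = -(β.N ^ i) β.v := by
  by_cases h : i < β.e
  · rw [show (β.N ^ i) β.u = β.basis (Sum.inr ⟨i, h⟩) by rw [β.basis_apply]; rfl, Bi.X0,
      Basis.constr_basis]
    rfl
  · rw [β.N_pow_ge (by omega)]; simp

theorem Bi.D_v (i : ℕ) : β.D ((β.N ^ i) β.v) = (β.N ^ i) β.v := by
  by_cases h : i < β.e
  · rw [show (β.N ^ i) β.v = β.basis (Sum.inl ⟨i, h⟩) by rw [β.basis_apply]; rfl, Bi.D,
      Basis.constr_basis, β.basis_apply]
    rfl
  · rw [β.N_pow_ge (by omega)]; simp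

theorem Bi.D_u (i : ℕ) : β.D ((β.N ^ i) β.u) = -(β.N ^ i) β.u := by
  by_cases h : i < β.e
  · rw [show (β.N ^ i) β.u = β.basis (Sum.inr ⟨i, h⟩) by rw [β.basis_apply]; rfl, Bi.D,
      Basis.constr_basis, β.basis_apply]
    rfl
  · rw [β.N_pow_ge (by omega)]; simp

theorem Bi.comm_X0 : Commute β.X0 β.N := by
  refine β.end_ext (fun i => ?_) fun i => ?_
  · rw [Module.End.mul_apply, Module.End.mul_apply, ← Module.End.mul_apply β.N, ← pow_succ',
      β.X0_v, β.X0_v, pow_succ', Module.End.mul_apply]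
  · rw [Module.End.mul_apply, Module.End.mul_apply, ← Module.End.mul_apply β.N, ← pow_succ',
      β.X0_u, β.X0_u, pow_succ', Module.End.mul_apply, map_neg]

theorem Bi.comm_D : Commute β.D β.N := by
  refine β.end_ext (fun i => ?_) fun i => ?_
  · rw [Module.End.mul_apply, Module.End.mul_apply, ← Module.End.mul_apply β.N, ← pow_succ',
      β.D_v, β.D_v, pow_succ', Module.End.mul_apply]
  · rw [Module.End.mul_apply, Module.End.mul_apply, ← Module.End.mul_apply β.N, ← pow_succ',
      β.D_u, β.D_u, pow_succ', Module.End.mul_apply, map_neg]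

theorem Bi.comm_Ti_of_comm {f : Module.End F V} (h : Commute f β.N) : Commute f β.Ti := by
  have hT : Commute f β.T := by
    have := h.add_right (Commute.one_right f)
    simpa [Bi.N] using this
  show f * β.Ti = β.Ti * f
  calc f * β.Ti = β.Ti * β.T * f * β.Ti := by rw [β.Ti_T, one_mul]
    _ = β.Ti * (f * β.T) * β.Ti := by rw [hT.eq, mul_assoc β.Ti]
    _ = β.Ti * f := by rw [mul_assoc, mul_assoc f, β.T_Ti, mul_one]

/-- the model hypotheses -/
def Bi.Std : Prop :=
  (∀ a b : ℕ, B ((β.N ^ a) β.v) ((β.N ^ b) β.v) = 0) ∧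
    (∀ a b : ℕ, B ((β.N ^ a) β.u) ((β.N ^ b) β.u) = 0) ∧
    ∀ i j : ℕ, B ((β.N ^ i) β.v) ((β.N ^ j) β.u) = B ((β.N ^ j) β.v) ((β.N ^ i) β.u)

theorem Bi.isom_sigma (h : β.Std) : ∀ x y, B (β.sigma x) (β.sigma y) = B x y := by
  obtain ⟨hv, hu, hs⟩ := h
  have hN' : ∀ (w : V) (i : ℕ), (β.N' ^ i) w ∈ Submodule.span F (Set.range fun n : ℕ => (β.N ^ n) w) := by
    intro w i
    have hinv : ∀ z ∈ Submodule.span F (Set.range fun n : ℕ => (β.N ^ n) w),
        β.g z ∈ Submodule.span F (Set.range fun n : ℕ => (β.N ^ n) w) := by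
      intro z hz
      have hN : Submodule.span F (Set.range fun n : ℕ => (β.N ^ n) w) ≤
          (Submodule.span F (Set.range fun n : ℕ => (β.N ^ n) w)).comap β.N := by
        rw [Submodule.span_le]
        rintro _ ⟨n, rfl⟩
        exact Submodule.subset_span ⟨n + 1, by simp [pow_succ']⟩
      have := add_mem (show β.N z ∈ Submodule.span F (Set.range fun n : ℕ => (β.N ^ n) w) from hN hz) hz
      simpa [Bi.N, Bi.T] using this
    induction i with
    | zero => exact Submodule.subset_span ⟨0, rfl⟩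
    | succ i ih =>
      rw [pow_succ', Module.End.mul_apply]
      exact sub_mem (inv_mem hinv ih) ih
  have hzero : ∀ w : V, (∀ a b : ℕ, B ((β.N ^ a) w) ((β.N ^ b) w) = 0) →
      ∀ i j : ℕ, B ((β.N' ^ i) w) ((β.N' ^ j) w) = 0 := by
    intro w hw i j
    have key : ∀ x ∈ Submodule.span F (Set.range fun n : ℕ => (β.N ^ n) w),
        ∀ y ∈ Submodule.span F (Set.range fun n : ℕ => (β.N ^ n) w), B x y = 0 := by
      intro x hx y hy
      induction hx, hy using Submodule.span_induction₂ with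
      | mem_mem x y hx hy =>
        obtain ⟨a, rfl⟩ := hx
        obtain ⟨b, rfl⟩ := hy
        exact hw a b
      | zero_left y hy => simp
      | zero_right x hx => simp
      | add_left x y z hx hy hz h1 h2 => simp [h1, h2]
      | add_right x y z hx hy hz h1 h2 => simp [h1, h2]
      | smul_left r x y hx hy h => simp [h]
      | smul_right r x y hx hy h => simp [h]
    exact key _ (hN' w i) _ (hN' w j)
  -- the pairing is invariant under the reversal
  have hsym : ∀ x ∈ Submodule.span F (Set.range fun n : ℕ => (β.N ^ n) β.v),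
      B (β.sigma x) β.u = B x β.u := by
    intro x hx
    induction hx using Submodule.span_induction with
    | mem x hx =>
      obtain ⟨n, rfl⟩ := hx
      have := hs 0 n
      simp only [pow_zero, Module.End.one_apply] at this
      rw [β.sigma_v, β.adjN'_pow, this]
    | zero => simp
    | add x y _ _ h1 h2 => simp [h1, h2]
    | smul r x _ h => simp [h]
  have hmix : ∀ i j : ℕ, B ((β.N' ^ i) β.v) ((β.N' ^ j) β.u) = B ((β.N ^ i) β.v) ((β.N ^ j) β.u) := by
    intro i j
    have hmem : (β.N ^ j) ((β.N' ^ i) β.v) ∈ Submodule.span F (Set.range fun n : ℕ => (β.N ^ n) β.v) := by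
      refine (Submodule.span_le (p := (Submodule.span F (Set.range fun n : ℕ => (β.N ^ n) β.v)).comap (β.N ^ j))).2 ?_ (hN' β.v i)
      rintro _ ⟨n, rfl⟩
      exact Submodule.subset_span ⟨j + n, by simp [pow_add]⟩
    rw [← β.adjN_pow, ← hsym _ hmem, β.sigma_mul_N_pow, β.sigma_mul_N'_pow, β.sigma_gen.1,
      β.adjN'_pow]
  have hbase : ∀ p q, B (β.sigma (β.basis p)) (β.sigma (β.basis q)) = 1 * B (β.basis p) (β.basis q) := by
    intro p q
    rw [one_mul, β.basis_apply, β.basis_apply]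
    rcases p with i | i <;> rcases q with j | j
    · show B (β.sigma ((β.N ^ (i : ℕ)) β.v)) (β.sigma ((β.N ^ (j : ℕ)) β.v)) = B ((β.N ^ (i : ℕ)) β.v) ((β.N ^ (j : ℕ)) β.v)
      rw [β.sigma_v, β.sigma_v, hzero _ hv, hv]
    · show B (β.sigma ((β.N ^ (i : ℕ)) β.v)) (β.sigma ((β.N ^ (j : ℕ)) β.u)) = B ((β.N ^ (i : ℕ)) β.v) ((β.N ^ (j : ℕ)) β.u)
      rw [β.sigma_v, β.sigma_u, hmix]
    · show B (β.sigma ((β.N ^ (i : ℕ)) β.u)) (β.sigma ((β.N ^ (j : ℕ)) β.v)) = B ((β.N ^ (i : ℕ)) β.u) ((β.N ^ (j : ℕ)) β.v)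
      rw [β.sigma_v, β.sigma_u, alt_swap β.alt, hmix, ← alt_swap β.alt]
    · show B (β.sigma ((β.N ^ (i : ℕ)) β.u)) (β.sigma ((β.N ^ (j : ℕ)) β.u)) = B ((β.N ^ (i : ℕ)) β.u) ((β.N ^ (j : ℕ)) β.u)
      rw [β.sigma_u, β.sigma_u, hzero _ hu, hu]
  intro x y
  rw [compl₁₂_ext β.basis 1 β.sigma hbase, one_mul]

theorem Bi.base_cases (c : F) (f : Module.End F V)
    (hvv : ∀ i j, B (f ((β.N ^ i) β.v)) (f ((β.N ^ j) β.v)) = c * B ((β.N ^ i) β.v) ((β.N ^ j) β.v))
    (hvu : ∀ i j, B (f ((β.N ^ i) β.v)) (f ((β.N ^ j) β.u)) = c * B ((β.N ^ i) β.v) ((β.N ^ j) β.u))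
    (huu : ∀ i j, B (f ((β.N ^ i) β.u)) (f ((β.N ^ j) β.u)) = c * B ((β.N ^ i) β.u) ((β.N ^ j) β.u)) :
    ∀ x y, B (f x) (f y) = c * B x y := by
  refine compl₁₂_ext β.basis c f fun p q => ?_
  rw [β.basis_apply, β.basis_apply]
  rcases p with i | i <;> rcases q with j | j
  · exact hvv i j
  · exact hvu i j
  · show B (f ((β.N ^ (i : ℕ)) β.u)) (f ((β.N ^ (j : ℕ)) β.v)) = c * B ((β.N ^ (i : ℕ)) β.u) ((β.N ^ (j : ℕ)) β.v)
    rw [alt_swap β.alt, hvu, alt_swap β.alt ((β.N ^ (i : ℕ)) β.u)]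
    ring
  · exact huu i j

theorem Bi.pow_char [Fintype F] (p : ℕ) [Fact p.Prime] [CharP F p] :
    ∃ o : ℕ, Odd p → Odd o ∧ β.T ^ o = 1 := by
  refine ⟨p ^ β.e, fun hp => ⟨hp.pow, ?_⟩⟩
  by_cases hV : Subsingleton V
  · exact LinearMap.ext fun x => Subsingleton.elim _ _
  haveI : Nontrivial V := not_subsingleton_iff_nontrivial.1 hV
  haveI : CharP (Module.End F V) p := charP_of_injective_algebraMap' F p
  have h : β.N ^ (p ^ β.e) = β.T ^ (p ^ β.e) - 1 := by
    rw [Bi.N, sub_pow_char_pow_of_commute p β.e (Commute.one_right _), one_pow]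
  have hle : β.e ≤ p ^ β.e := (Nat.lt_pow_self (Fact.out : p.Prime).one_lt).le
  rw [β.N_pow_ge hle] at h
  exact sub_eq_zero.1 h.symm

theorem Bi.comOn_std [Finite F] (h : β.Std) (h2 : (2 : F) ≠ 0) (g₁ : V ≃ₗ[F] V)
    (hneg : ∀ x, g₁ x = -(β.g x)) : ComOn B g₁ ⊤ := by
  classical
  haveI : Fintype F := Fintype.ofFinite F
  obtain ⟨hv, hu, hs⟩ := h
  obtain ⟨p, hp⟩ := CharP.exists F
  haveI : CharP F p := hp
  haveI : Fact p.Prime := ⟨CharP.char_is_prime F p⟩
  obtain ⟨o, ho⟩ := β.pow_char p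
  have hpodd : Odd p := by
    rcases (Fact.out : p.Prime).eq_two_or_odd' with h | h
    · exfalso; apply h2
      have := CharP.cast_eq_zero F p
      rw [h] at this
      exact_mod_cast this
    · exact h
  obtain ⟨⟨k, hk⟩, hTo⟩ := ho hpodd
  set H : Module.End F V := β.T ^ (k + 1) with hH
  set Hi : Module.End F V := β.Ti ^ (k + 1) with hHi
  have hHisom : ∀ x y, B (H x) (H y) = B x y := by
    rw [hH]
    generalize k + 1 = n
    induction n with
    | zero => intro x y; simp
    | succ n ih =>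
      intro x y
      rw [pow_succ', Module.End.mul_apply, Module.End.mul_apply]
      exact (β.isom _ _).trans (ih x y)
  have hTHi : β.T * Hi = H := by
    have h1 : β.Ti ^ (k + 1) = β.T ^ k := by
      calc β.Ti ^ (k + 1) = β.Ti ^ (k + 1) * β.T ^ o := by rw [hTo, mul_one]
        _ = β.Ti ^ (k + 1) * β.T ^ (k + 1) * β.T ^ k := by
          rw [mul_assoc, ← pow_add, show k + 1 + k = o by omega]
        _ = β.T ^ k := by
          rw [← (show Commute β.Ti β.T from β.Ti_T.trans β.T_Ti.symm).mul_pow, β.Ti_T, one_pow, one_mul]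
    rw [hHi, h1, hH, pow_succ']
  have hX0 : ∀ x y, B (β.X0 x) (β.X0 y) = B x y := by
    intro x y
    rw [β.base_cases 1 β.X0 (fun i j => ?_) (fun i j => ?_) (fun i j => ?_), one_mul]
    · rw [β.X0_v, β.X0_v, hu, one_mul, hv]
    · rw [β.X0_v, β.X0_u, map_neg, alt_swap β.alt, neg_neg, one_mul, hs]
    · rw [β.X0_u, β.X0_u, hu, map_neg, map_neg, LinearMap.neg_apply, hv]; simp
  have hD : ∀ x y, B (β.D x) (β.D y) = -1 * B x y := by
    refine β.base_cases (-1) β.D (fun i j => ?_) (fun i j => ?_) (fun i j => ?_)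
    · rw [β.D_v, β.D_v, hv]; simp
    · rw [β.D_v, β.D_u, map_neg]; simp
    · rw [β.D_u, β.D_u, map_neg, map_neg, LinearMap.neg_apply, hu]; simp
  have hX0sq : β.X0 * β.X0 = -1 := by
    refine β.end_ext (fun i => ?_) fun i => ?_
    · rw [Module.End.mul_apply, β.X0_v, β.X0_u]; rfl
    · rw [Module.End.mul_apply, β.X0_u, map_neg, β.X0_v]; rfl
  have hX0D : β.X0 * β.D = -(β.D * β.X0) := by
    refine β.end_ext (fun i => ?_) fun i => ?_
    · rw [Module.End.mul_apply, LinearMap.neg_apply, Module.End.mul_apply, β.D_v, β.X0_v, β.D_u, neg_neg]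
    · rw [Module.End.mul_apply, LinearMap.neg_apply, Module.End.mul_apply, β.D_u, map_neg, β.X0_u,
        map_neg, β.D_v]
  have hcross : ∀ x y, B (β.X0 x) y + B x (β.X0 y) = 0 := by
    intro x y
    have h1 : β.X0 (β.X0 y) = -y := by rw [← Module.End.mul_apply, hX0sq]; rfl
    have h2 := hX0 x (β.X0 y)
    rw [h1, map_neg] at h2
    linear_combination -h2
  obtain ⟨a, b, hab⟩ := FiniteField.exists_root_sum_quadratic (R := F)
    (f := Polynomial.X ^ 2) (g := Polynomial.X ^ 2 + Polynomial.C 1)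
    (Polynomial.degree_X_pow 2) (Polynomial.degree_X_pow_add_C (by norm_num) _)
    (FiniteField.odd_card_of_char_ne_two (fun h => h2 (by
      haveI : CharP F 2 := ringChar.of_eq h
      exact CharTwo.two_eq_zero)))
  simp at hab
  set J0 : Module.End F V := (a • (1 : Module.End F V) + b • β.X0) * β.D with hJ0
  have hJ : ∀ x y, B (J0 x) (J0 y) = B x y := by
    intro x y
    rw [hJ0, Module.End.mul_apply, Module.End.mul_apply]
    simp only [LinearMap.add_apply, LinearMap.smul_apply, Module.End.one_apply, map_add, map_smul,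
      smul_eq_mul, hX0]
    have h := hcross (β.D x) (β.D y)
    rw [hD x y]
    linear_combination (a * b) * h - B x y * hab
  have cX : Commute β.X0 β.Ti := β.comm_Ti_of_comm β.comm_X0
  have cD : Commute β.D β.Ti := β.comm_Ti_of_comm β.comm_D
  have cJN : Commute J0 β.N :=
    (((Commute.one_left _).smul_left a).add_left (β.comm_X0.smul_left b)).mul_left β.comm_D
  have cXT : Commute β.X0 β.T := by
    have := β.comm_X0.add_right (Commute.one_right β.X0)
    simpa [Bi.N] using this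
  have cJT : Commute J0 β.T := by
    have := cJN.add_right (Commute.one_right J0)
    simpa [Bi.N] using this
  have hstd : β.Std := ⟨hv, hu, hs⟩
  have key := ring_commutator (X0 := β.X0) (J := J0) (Si := β.sigma) (H := H) (Hi := Hi) (G := β.T) ?_ ?_ ?_
    (cJT.pow_right _).eq.symm (cXT.pow_right _).eq.symm cJT.eq.symm cXT.eq.symm hTHi
  · set X := ofForm β.nd (β.X0 * H) (fun x y => by
      rw [Module.End.mul_apply, Module.End.mul_apply, hX0, hHisom]) with hX
    set Y := ofForm β.nd (J0 * β.sigma) (fun x y => by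
      show B (J0 (β.sigma x)) (J0 (β.sigma y)) = B x y
      rw [hJ, β.isom_sigma hstd]) with hY
    refine ⟨X, Y, ?_, ?_, fun v hv => ?_, fun v _ => ⟨trivial, trivial⟩, fun v _ => ?_⟩
    · intro x y; rw [ofForm_apply, ofForm_apply, Module.End.mul_apply, Module.End.mul_apply, hX0, hHisom]
    · intro x y
      rw [ofForm_apply, ofForm_apply]
      show B (J0 (β.sigma x)) (J0 (β.sigma y)) = B x y
      rw [hJ, β.isom_sigma hstd]
    · have : v = 0 := β.nd.2 v fun x => hv x trivial
      rw [this]; simp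
    · have hgyx : g₁ * (Y * X) = X * Y := LinearEquiv.ext fun x => by
        rw [LinearEquiv.mul_apply, hneg]
        exact LinearMap.congr_fun key x
      rw [show g₁ = X * Y * X⁻¹ * Y⁻¹ by rw [← hgyx]; group]
  · rw [hJ0]
    simp only [add_mul, mul_add, smul_mul_assoc, mul_smul_comm, one_mul, ← mul_assoc, hX0sq, hX0D]
    simp only [mul_assoc, hX0D, neg_mul, mul_neg, smul_neg, neg_neg, neg_add_rev, one_mul]
    abel_nf
    rw [← mul_assoc β.X0 β.D, hX0D, neg_mul, mul_assoc, hX0sq]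
    simp only [mul_neg, mul_one, neg_neg, smul_neg, neg_smul, one_smul]
  · refine β.end_ext (fun i => ?_) fun i => ?_
    · rw [Module.End.mul_apply, Module.End.mul_apply, β.X0_v, β.sigma_u, β.sigma_v, β.N'_pow]
      simp only [LinearMap.smul_apply, map_smul]
      rw [← Module.End.mul_apply β.X0, ((cX.pow_right i).mul_right (β.comm_X0.pow_right i)).eq,
        Module.End.mul_apply]
      have := β.X0_v 0
      simp at this
      simp only [Module.End.mul_apply, this]
    · rw [Module.End.mul_apply, Module.End.mul_apply, β.X0_u, map_neg, β.sigma_v, β.sigma_u, β.N'_pow]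
      simp only [LinearMap.smul_apply, map_smul]
      rw [← Module.End.mul_apply β.X0, ((cX.pow_right i).mul_right (β.comm_X0.pow_right i)).eq,
        Module.End.mul_apply]
      have := β.X0_u 0
      simp at this
      simp only [Module.End.mul_apply, this, map_neg, smul_neg]
  · have : ∀ n : ℕ, β.sigma * β.T ^ n = β.Ti ^ n * β.sigma := by
      intro n
      induction n with
      | zero => simp
      | succ n ih => rw [pow_succ, ← mul_assoc, ih, mul_assoc, β.sigma_T, ← mul_assoc, ← pow_succ]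
    exact this _

theorem Bi.sum_pair {i : ℕ} {w : V} (h : ∀ k, i ≤ k → B ((β.N ^ k) β.v) w = 0) :
    ∀ k, i ≤ k → ∀ m : ℕ, B ((β.Ti ^ m * β.N ^ k) β.v) w = 0 := by
  intro k hk m
  induction m generalizing k with
  | zero => simpa using h k hk
  | succ m ih =>
    -- downward induction on the exponent
    suffices hd : ∀ j k, β.e ≤ j + k → i ≤ k → B ((β.Ti ^ (m + 1) * β.N ^ k) β.v) w = 0 from
      hd β.e k (by omega) hk
    intro j
    induction j with
    | zero => intro k hk _; rw [β.N_pow_ge (by omega)]; simp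
    | succ j ihj =>
      intro k hk' hik
      have h1 : β.Ti ^ (m + 1) * β.N ^ k = β.Ti ^ m * β.N ^ k - β.Ti ^ (m + 1) * β.N ^ (k + 1) := by
        have e : β.Ti ^ m = β.Ti ^ (m + 1) * β.T := by rw [pow_succ, mul_assoc, β.Ti_T, mul_one]
        conv_rhs => rw [e, pow_succ' β.N k, ← mul_assoc (β.Ti ^ (m + 1)) β.N, ← sub_mul, ← mul_sub]
        simp [Bi.N]
      rw [h1, LinearMap.sub_apply, map_sub, LinearMap.sub_apply, ih k hik, ihj (k + 1) (by omega) (by omega), sub_zero]

theorem Bi.iso_step (hodd : Odd β.e) (h2 : (2 : F) ≠ 0) :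
    ∀ j : ℕ, ∃ r ∈ Submodule.span F (Set.range fun n : ℕ => (β.N ^ n) β.u),
      B ((β.N ^ (β.e - 1)) (β.v + r)) β.u = 1 ∧
        ∀ i, β.e ≤ i + j + 1 → B ((β.N ^ i) (β.v + r)) (β.v + r) = 0 := by
  intro j
  induction j with
  | zero =>
    refine ⟨0, zero_mem _, by rw [add_zero]; exact β.pair, fun i hi => ?_⟩
    rw [add_zero]
    rcases Nat.lt_or_ge i β.e with h | h
    · rw [show i = β.e - 1 by omega]; exact β.deg _
    · rw [β.N_pow_ge h]; simp
  | succ j ih =>
    obtain ⟨r, hr, hpair, hz⟩ := ih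
    by_cases hj : β.e ≤ j + 1
    · exact ⟨r, hr, hpair, fun i _ => hz i (by omega)⟩
    set w := β.v + r with hw
    set γ := β.setV w hpair with hγ
    set t := β.e - 2 - j with ht
    have hlow : ∀ k, t + 1 ≤ k → B ((β.N ^ k) w) w = 0 := fun k hk => hz k (by omega)
    have hlow' := γ.sum_pair (i := t + 1) (w := w) hlow
    set a := B ((β.N ^ t) w) w with ha
    set d := j + 1 with hdd
    -- the linear terms
    have hL1 : ∀ i, t ≤ i → B ((β.N ^ i) ((β.N ^ d) β.u)) w = if i = t then -1 else 0 := by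
      intro i hi
      rw [← Module.End.mul_apply, ← pow_add]
      split
      · rw [show i + d = β.e - 1 by omega]; exact γ.pair'
      · rw [β.N_pow_ge (by omega)]; simp
    have hL2 : ∀ i, t ≤ i → B ((β.N ^ i) w) ((β.N ^ d) β.u) = if i = t then (-1) ^ d else 0 := by
      intro i hi
      rw [← β.adjN'_pow, β.N'_pow, LinearMap.smul_apply, Module.End.mul_apply,
        ← Module.End.mul_apply (β.N ^ d), ← pow_add]
      split
      · rw [← Module.End.mul_apply, show d + i = β.e - 1 by omega, β.Ti_pow_top, map_smul,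
          LinearMap.smul_apply, show B ((β.N ^ (β.e - 1)) w) β.u = 1 from hpair, smul_eq_mul, mul_one]
      · rw [β.N_pow_ge (show β.e ≤ d + i by omega)]; simp
    have hQ : ∀ i, t ≤ i → B ((β.N ^ i) ((β.N ^ d) β.u)) ((β.N ^ d) β.u) = 0 := by
      intro i hi
      rw [← β.adjN'_pow, β.N'_pow, LinearMap.smul_apply, Module.End.mul_apply,
        ← Module.End.mul_apply (β.N ^ d), ← Module.End.mul_apply (β.N ^ d * _), ← pow_add, ← pow_add]
      rcases Nat.lt_or_ge (d + i + d) β.e with h | h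
      · rw [← Module.End.mul_apply, show d + i + d = β.e - 1 by omega, β.Ti_pow_top, map_smul,
          LinearMap.smul_apply, show B ((β.N ^ (β.e - 1)) β.u) β.u = 0 from β.deg _, smul_zero]
      · rw [β.N_pow_ge h]; simp
    obtain ⟨c, hc⟩ : ∃ c : F, a + c * ((-1) ^ d) + c * (-1) = 0 := by
      rcases Nat.even_or_odd d with hev | hod
      · refine ⟨0, ?_⟩
        -- the middle coefficient vanishes by itself
        have hte : Even t := by
          obtain ⟨k, hk⟩ := hev; obtain ⟨l, hl⟩ := hodd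
          exact ⟨l - k, by omega⟩
        have h1 : a = -B ((β.N' ^ t) w) w := by rw [ha, β.adjN_pow, alt_swap β.alt]
        have h3 : B ((β.N' ^ t) w) w = a := by
          rw [β.N'_pow, hte.neg_one_pow, one_smul]
          -- replace the inverse powers
          have hdown : ∀ m : ℕ, B ((β.Ti ^ m * β.N ^ t) w) w = a := by
            intro m
            induction m with
            | zero => simp [ha]
            | succ m ih =>
              have e : β.Ti ^ (m + 1) * β.N ^ t = β.Ti ^ m * β.N ^ t - β.Ti ^ (m + 1) * β.N ^ (t + 1) := by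
                have e : β.Ti ^ m = β.Ti ^ (m + 1) * β.T := by rw [pow_succ, mul_assoc, β.Ti_T, mul_one]
                conv_rhs => rw [e, pow_succ' β.N t, ← mul_assoc (β.Ti ^ (m + 1)) β.N, ← sub_mul, ← mul_sub]
                simp [Bi.N]
              rw [e, LinearMap.sub_apply, map_sub, LinearMap.sub_apply, ih,
                show B ((β.Ti ^ (m + 1) * β.N ^ (t + 1)) w) w = 0 from hlow' _ le_rfl _, sub_zero]
          exact hdown t
        rw [h3] at h1
        have : (2 : F) * a = 0 := by linear_combination h1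
        rw [(mul_eq_zero.1 this).resolve_left h2]; simp
      · refine ⟨a / 2, ?_⟩
        rw [hod.neg_one_pow]; field_simp; ring
    refine ⟨r + c • (β.N ^ d) β.u, add_mem hr (Submodule.smul_mem _ _ (Submodule.subset_span ⟨d, rfl⟩)), ?_, ?_⟩
    · rw [← add_assoc, map_add, LinearMap.map_smul, map_add, LinearMap.add_apply, hpair,
        ← Module.End.mul_apply, ← pow_add, β.N_pow_ge (by omega)]
      simp
    · intro i hi
      rw [← add_assoc, ← hw]
      simp only [map_add, map_smul, LinearMap.add_apply, LinearMap.smul_apply, smul_eq_mul]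
      rw [hL1 i (by omega), hL2 i (by omega), hQ i (by omega)]
      by_cases hit : i = t
      · simp only [hit, if_true]
        linear_combination hc
      · simp only [if_neg hit]
        rw [hlow i (by omega)]; ring

theorem Bi.iso_of_zero {w : V} (h : ∀ i, B ((β.N ^ i) w) w = 0) :
    ∀ a b : ℕ, B ((β.N ^ a) w) ((β.N ^ b) w) = 0 := by
  intro a b
  rw [← β.adjN'_pow, β.N'_pow, LinearMap.smul_apply, Module.End.mul_apply,
    ← Module.End.mul_apply (β.N ^ b), ← pow_add, map_smul, LinearMap.smul_apply]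
  have : ∀ (m k : ℕ), B ((β.Ti ^ m * β.N ^ k) w) w = 0 := by
    intro m
    induction m with
    | zero => intro k; simpa using h k
    | succ m ih =>
      suffices hd : ∀ j k, β.e ≤ j + k → B ((β.Ti ^ (m + 1) * β.N ^ k) w) w = 0 from
        fun k => hd β.e k (by omega)
      intro j
      induction j with
      | zero => intro k hk; rw [β.N_pow_ge (by omega)]; simp
      | succ j ihj =>
        intro k hk'
        have h1 : β.Ti ^ (m + 1) * β.N ^ k = β.Ti ^ m * β.N ^ k - β.Ti ^ (m + 1) * β.N ^ (k + 1) := by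
          have e : β.Ti ^ m = β.Ti ^ (m + 1) * β.T := by rw [pow_succ, mul_assoc, β.Ti_T, mul_one]
          conv_rhs => rw [e, pow_succ' β.N k, ← mul_assoc (β.Ti ^ (m + 1)) β.N, ← sub_mul, ← mul_sub]
          simp [Bi.N]
        rw [h1, LinearMap.sub_apply, map_sub, LinearMap.sub_apply, ih k, ihj (k + 1) (by omega), sub_zero]
  rw [← Module.End.mul_apply, this, smul_zero]

theorem Bi.comOn_neg [Finite F] (hodd : Odd β.e) (h2 : (2 : F) ≠ 0) (g₁ : V ≃ₗ[F] V)
    (hneg : ∀ x, g₁ x = -(β.g x)) : ComOn B g₁ ⊤ := by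
  classical
  -- an isotropic first generator
  obtain ⟨r, -, hpair, hz⟩ := β.iso_step hodd h2 β.e
  set γ := β.setV (β.v + r) hpair with hγ
  have hv := γ.iso_of_zero (w := γ.v) fun i => hz i (by omega)
  -- a symmetric pairing
  set f : V →ₗ[F] F := (2 : F)⁻¹ • (B.flip γ.u + (B.flip γ.u).comp γ.sigma) with hf
  obtain ⟨u', hu'⟩ := (LinearMap.BilinForm.toDual B.flip γ.nd.flip).surjective f
  have hu'' : ∀ x, B x u' = (2 : F)⁻¹ * (B x γ.u + B (γ.sigma x) γ.u) := fun x => by
    have := LinearMap.congr_fun hu' x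
    rw [mul_add]
    simpa [LinearMap.BilinForm.toDual_def, hf] using this
  have hpair' : B ((γ.N ^ (γ.e - 1)) γ.v) u' = 1 := by
    rw [hu'', γ.sigma_v, γ.N'_pow_top hodd]
    rw [show B ((γ.N ^ (γ.e - 1)) γ.v) γ.u = 1 from γ.pair]
    field_simp; ring
  have hsym : ∀ n : ℕ, B ((γ.N' ^ n) γ.v) u' = B ((γ.N ^ n) γ.v) u' := by
    intro n
    rw [hu'', hu'', γ.sigma_mul_N'_pow, γ.sigma_gen.1, γ.sigma_v]
    ring
  -- an isotropic second generator
  set δ₀ := γ.setU u' hpair' with hδ₀
  have hswap : B ((δ₀.N ^ (δ₀.e - 1)) δ₀.u) (-δ₀.v) = 1 := by rw [map_neg, δ₀.pair', neg_neg]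
  set ε : Bi B := { δ₀ with v := δ₀.u, u := -δ₀.v, pair := hswap } with hε
  obtain ⟨s, hs, hpair2, hz2⟩ := ε.iso_step hodd h2 β.e
  have hu := ε.iso_of_zero (w := ε.v + s) fun i => hz2 i (by
    show β.e ≤ i + β.e + 1
    omega)
  have hsP : ∀ k, B ((γ.N ^ k) γ.v) s = 0 := by
    intro k
    clear hpair2 hz2 hu
    induction hs using Submodule.span_induction with
    | mem x hx =>
      obtain ⟨n, rfl⟩ := hx
      show B ((γ.N ^ k) γ.v) ((γ.N ^ n) (-γ.v)) = 0
      rw [map_neg, map_neg, hv, neg_zero]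
    | zero => simp
    | add x y _ _ h1 h2 => simp [h1, h2]
    | smul c x _ h => simp [h]
  have hpair3 : B ((γ.N ^ (γ.e - 1)) γ.v) (u' + s) = 1 := by rw [map_add, hsP, add_zero, hpair']
  set δ := γ.setU (u' + s) hpair3 with hδ
  have hstd : δ.Std := by
    refine ⟨hv, hu, ?_⟩
    -- the pairing
    have hsP' : ∀ x ∈ Submodule.span F (Set.range fun n : ℕ => (γ.N ^ n) γ.v), B x (u' + s) = B x u' := by
      intro x hx
      induction hx using Submodule.span_induction with
      | mem x hx => obtain ⟨n, rfl⟩ := hx; rw [map_add, hsP, add_zero]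
      | zero => simp
      | add x y _ _ h1 h2 => simp only [map_add, LinearMap.add_apply] at h1 h2 ⊢; linear_combination h1 + h2
      | smul c x _ h => simp only [map_add, map_smul, LinearMap.smul_apply, smul_eq_mul] at h ⊢; linear_combination c * h
    have hinv : ∀ m k : ℕ, (γ.N' ^ m) ((γ.N ^ k) γ.v) ∈ Submodule.span F (Set.range fun n : ℕ => (γ.N ^ n) γ.v) := by
      intro m k
      induction m with
      | zero => exact Submodule.subset_span ⟨k, rfl⟩
      | succ m ih =>
        rw [pow_succ', Module.End.mul_apply]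
        refine sub_mem (inv_mem (fun z hz => ?_) ih) ih
        have hN : Submodule.span F (Set.range fun n : ℕ => (γ.N ^ n) γ.v) ≤
            (Submodule.span F (Set.range fun n : ℕ => (γ.N ^ n) γ.v)).comap γ.N := by
          rw [Submodule.span_le]
          rintro _ ⟨n, rfl⟩
          exact Submodule.subset_span ⟨n + 1, by simp [pow_succ']⟩
        have := add_mem (show γ.N z ∈ Submodule.span F (Set.range fun n : ℕ => (γ.N ^ n) γ.v) from hN hz) hz
        simpa [Bi.N, Bi.T] using this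
    have hsymP : ∀ x ∈ Submodule.span F (Set.range fun n : ℕ => (γ.N ^ n) γ.v), B (γ.sigma x) u' = B x u' := by
      intro x hx
      induction hx using Submodule.span_induction with
      | mem x hx => obtain ⟨n, rfl⟩ := hx; rw [γ.sigma_v, hsym]
      | zero => simp
      | add x y _ _ h1 h2 => simp [h1, h2]
      | smul c x _ h => simp [h]
    intro i j
    show B ((γ.N ^ i) γ.v) ((γ.N ^ j) (u' + s)) = B ((γ.N ^ j) γ.v) ((γ.N ^ i) (u' + s))
    rw [← γ.adjN'_pow, ← γ.adjN'_pow, hsP' _ (hinv j i), hsP' _ (hinv i j)]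
    conv_lhs => rw [← hsymP _ (hinv j i), γ.sigma_mul_N'_pow, γ.sigma_v]
    rw [← Module.End.mul_apply, ← Module.End.mul_apply]
    have hcm : γ.N ^ j * γ.N' ^ i = γ.N' ^ i * γ.N ^ j := by
      refine ((Commute.pow_pow ?_ j i)).eq
      exact γ.comm_Ti_N.symm.sub_right (Commute.one_right _)
    rw [hcm]
  exact δ.comOn_std hstd h2 g₁ hneg

end CfsgLib.OreSp
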