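import Cfsg.Agent.Lib.OreSp.Space

/-!
An indecomposable unipotent isometry all of whose cyclic subspaces are degenerate: bicyclic bases and
the Lagrangian for the decomposition.
-/

set_option autoImplicit false

namespace CfsgLib.OreSp

open Module

variable {F : Type*} [Field F] {V : Type*} [AddCommGroup V] [Module F V] [FiniteDimensional F V]

/-- a pair generating the space under a unipotent isometry with degenerate cyclic subspaces -/
structure Bi (B : LinearMap.BilinForm F V) where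
  /-- the isometry -/
  g : V ≃ₗ[F] V
  /-- nilpotency index -/
  e : ℕ
  /-- first generator -/
  v : V
  /-- second generator -/
  u : V
  alt : B.IsAlt
  nd : B.Nondegenerate
  isom : Isom B g
  indec : ∀ U : Submodule F V, (∀ x ∈ U, g x ∈ U) → Nd B U → U ≠ ⊥ → U = ⊤
  epos : 0 < e
  nil : ((g : V →ₗ[F] V) - 1) ^ e = 0
  deg : ∀ w, B ((((g : V →ₗ[F] V) - 1) ^ (e - 1)) w) w = 0
  pair : B ((((g : V →ₗ[F] V) - 1) ^ (e - 1)) v) u = 1

variable {B : LinearMap.BilinForm F V} (β : Bi B)

/-- the isometry as an endomorphism -/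
def Bi.T : Module.End F V := (β.g : V →ₗ[F] V)

/-- its inverse -/
def Bi.Ti : Module.End F V := (β.g.symm : V →ₗ[F] V)

/-- the nilpotent part -/
def Bi.N : Module.End F V := β.T - 1

/-- the nilpotent part of the inverse -/
def Bi.N' : Module.End F V := β.Ti - 1

theorem Bi.T_Ti : β.T * β.Ti = 1 := LinearMap.ext fun x => β.g.apply_symm_apply x

theorem Bi.Ti_T : β.Ti * β.T = 1 := LinearMap.ext fun x => β.g.symm_apply_apply x

theorem Bi.N_pow : β.N ^ β.e = 0 := β.nil

theorem Bi.N_pow_ge {i : ℕ} (h : β.e ≤ i) : β.N ^ i = 0 := by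
  rw [show i = β.e + (i - β.e) by omega, pow_add, β.N_pow, zero_mul]

theorem Bi.comm_Ti_N : Commute β.Ti β.N := by
  show β.Ti * (β.T - 1) = (β.T - 1) * β.Ti
  rw [mul_sub, sub_mul, β.T_Ti, β.Ti_T, mul_one, one_mul]

theorem Bi.N'_eq : β.N' = -β.Ti * β.N := by
  show β.Ti - 1 = -β.Ti * (β.T - 1)
  rw [mul_sub, neg_mul, β.Ti_T, mul_one]
  abel

theorem Bi.N'_pow : ∀ i : ℕ, β.N' ^ i = (-1 : F) ^ i • (β.Ti ^ i * β.N ^ i) := by
  intro i
  rw [β.N'_eq, show -β.Ti * β.N = (-1 : F) • (β.Ti * β.N) by rw [neg_one_smul, neg_mul],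
    smul_pow, β.comm_Ti_N.mul_pow]

theorem Bi.N'_pow_ge {i : ℕ} (h : β.e ≤ i) : β.N' ^ i = 0 := by
  rw [β.N'_pow, β.N_pow_ge h, mul_zero, smul_zero]

theorem Bi.Ti_pow_top : ∀ m : ℕ, β.Ti ^ m * β.N ^ (β.e - 1) = β.N ^ (β.e - 1) := by
  intro m
  induction m with
  | zero => rw [pow_zero, one_mul]
  | succ m ih =>
    have h1 : β.T * β.N ^ (β.e - 1) = β.N ^ (β.e - 1) := by
      have h : β.N ^ β.e = β.N * β.N ^ (β.e - 1) := by
        rw [← pow_succ', Nat.sub_add_cancel β.epos]
      rw [β.N_pow] at h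
      rw [show β.T = β.N + 1 by simp [Bi.N], add_mul, one_mul, ← h, zero_add]
    have h2 : β.Ti * β.N ^ (β.e - 1) = β.N ^ (β.e - 1) := by
      conv_lhs => rw [← h1, ← mul_assoc, β.Ti_T, one_mul]
    rw [pow_succ, mul_assoc, h2, ih]

theorem Bi.adj (x y : V) : B (β.T x) y = B x (β.Ti y) := by
  conv_lhs => rw [show y = β.g (β.g.symm y) from (β.g.apply_symm_apply y).symm]
  exact β.isom x _

theorem Bi.adj' (x y : V) : B (β.Ti x) y = B x (β.T y) := by
  conv_rhs => rw [show x = β.g (β.g.symm x) from (β.g.apply_symm_apply x).symm]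
  exact (β.isom _ y).symm

theorem Bi.adjN (x y : V) : B (β.N x) y = B x (β.N' y) := by
  show B (β.T x - x) y = B x (β.Ti y - y)
  rw [map_sub, LinearMap.sub_apply, map_sub, β.adj]

theorem Bi.adjN' (x y : V) : B (β.N' x) y = B x (β.N y) := by
  show B (β.Ti x - x) y = B x (β.T y - y)
  rw [map_sub, LinearMap.sub_apply, map_sub, β.adj']

theorem Bi.adjN_pow : ∀ (i : ℕ) (x y : V), B ((β.N ^ i) x) y = B x ((β.N' ^ i) y)
  | 0, x, y => by simp
  | i + 1, x, y => by
    rw [pow_succ, pow_succ']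
    show B ((β.N ^ i) (β.N x)) y = B x (β.N' ((β.N' ^ i) y))
    rw [Bi.adjN_pow i, β.adjN]

theorem Bi.adjN'_pow : ∀ (i : ℕ) (x y : V), B ((β.N' ^ i) x) y = B x ((β.N ^ i) y)
  | 0, x, y => by simp
  | i + 1, x, y => by
    rw [pow_succ, pow_succ']
    show B ((β.N' ^ i) (β.N' x)) y = B x (β.N ((β.N ^ i) y))
    rw [Bi.adjN'_pow i, β.adjN']

theorem Bi.pair' : B ((β.N ^ (β.e - 1)) β.u) β.v = -1 := by
  have h : B ((β.N ^ (β.e - 1)) (β.v + β.u)) (β.v + β.u) = 0 := β.deg _
  simp only [map_add, LinearMap.add_apply] at h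
  have h1 : B ((β.N ^ (β.e - 1)) β.v) β.v = 0 := β.deg _
  have h2 : B ((β.N ^ (β.e - 1)) β.u) β.u = 0 := β.deg _
  have h3 : B ((β.N ^ (β.e - 1)) β.v) β.u = 1 := β.pair
  rw [h1, h2, h3] at h
  linear_combination h

theorem Bi.top_indep {c d : F}
    (h : c • (β.N ^ (β.e - 1)) β.v + d • (β.N ^ (β.e - 1)) β.u = 0) : c = 0 ∧ d = 0 := by
  have h3 : B ((β.N ^ (β.e - 1)) β.v) β.u = 1 := β.pair
  have h1 : B ((β.N ^ (β.e - 1)) β.v) β.v = 0 := β.deg _
  have h2 : B ((β.N ^ (β.e - 1)) β.u) β.u = 0 := β.deg _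
  have e1 := congrArg (fun z => B z β.u) h
  have e2 := congrArg (fun z => B z β.v) h
  simp [h1, h2, h3, β.pair'] at e1 e2
  exact ⟨e1, e2⟩

/-- triangular independence -/
theorem Bi.indep (n m : ℕ → ℕ) (c d : ℕ → F)
    (h : ∑ i ∈ Finset.range β.e, (c i • (β.Ti ^ n i * β.N ^ i) β.v + d i • (β.Ti ^ m i * β.N ^ i) β.u) = 0) :
    ∀ i < β.e, c i = 0 ∧ d i = 0 := by
  intro i
  induction i using Nat.strong_induction_on with
  | _ i ih =>
    intro hi
    have h' := congrArg (β.N ^ (β.e - 1 - i)) h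
    rw [map_sum, map_zero] at h'
    rw [Finset.sum_eq_single i] at h'
    · rw [map_add, map_smul, map_smul, ← Module.End.mul_apply, ← Module.End.mul_apply] at h'
      have hx : ∀ n : ℕ, β.N ^ (β.e - 1 - i) * (β.Ti ^ n * β.N ^ i) = β.N ^ (β.e - 1) := by
        intro n
        rw [← mul_assoc, ← (β.comm_Ti_N.pow_pow n _).eq, mul_assoc, ← pow_add,
          show β.e - 1 - i + i = β.e - 1 by omega, β.Ti_pow_top]
      rw [hx, hx] at h'
      exact β.top_indep h'
    · intro j hj hji
      rcases lt_or_gt_of_ne hji with hlt | hgt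
      · obtain ⟨h1, h2⟩ := ih j hlt (by omega)
        rw [h1, h2]; simp
      · rw [map_add, map_smul, map_smul, ← Module.End.mul_apply, ← Module.End.mul_apply]
        have hx : ∀ n : ℕ, β.N ^ (β.e - 1 - i) * (β.Ti ^ n * β.N ^ j) = 0 := by
          intro n
          rw [← mul_assoc, ← (β.comm_Ti_N.pow_pow n _).eq, mul_assoc, ← pow_add,
            β.N_pow_ge (by omega), mul_zero]
        rw [hx, hx]; simp
    · intro h; exact absurd (Finset.mem_range.2 hi) h

/-- the basis vectors -/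
def Bi.vec : Fin β.e ⊕ Fin β.e → V :=
  Sum.elim (fun i => (β.N ^ (i : ℕ)) β.v) (fun i => (β.N ^ (i : ℕ)) β.u)

theorem Bi.vec_mem_inv {x : V} (hx : x ∈ Submodule.span F (Set.range β.vec)) :
    β.g x ∈ Submodule.span F (Set.range β.vec) := by
  set U := Submodule.span F (Set.range β.vec) with hU
  have hN : U ≤ U.comap β.N := by
    rw [hU, Submodule.span_le]
    rintro _ ⟨i, rfl⟩
    rcases i with ⟨i, hi⟩ | ⟨i, hi⟩
    · show β.N ((β.N ^ i) β.v) ∈ U
      rw [← Module.End.mul_apply, ← pow_succ']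
      by_cases h : i + 1 < β.e
      · exact Submodule.subset_span ⟨Sum.inl ⟨i + 1, h⟩, rfl⟩
      · rw [β.N_pow_ge (by omega)]; simp
    · show β.N ((β.N ^ i) β.u) ∈ U
      rw [← Module.End.mul_apply, ← pow_succ']
      by_cases h : i + 1 < β.e
      · exact Submodule.subset_span ⟨Sum.inr ⟨i + 1, h⟩, rfl⟩
      · rw [β.N_pow_ge (by omega)]; simp
  have := add_mem (show β.N x ∈ U from hN hx) hx
  simpa [Bi.N, Bi.T] using this

theorem Bi.sum_vec (c : Fin β.e ⊕ Fin β.e → F) :
    ∑ i, c i • β.vec i = ∑ i ∈ Finset.range β.e,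
      ((if h : i < β.e then c (Sum.inl ⟨i, h⟩) else 0) • (β.Ti ^ 0 * β.N ^ i) β.v +
        (if h : i < β.e then c (Sum.inr ⟨i, h⟩) else 0) • (β.Ti ^ 0 * β.N ^ i) β.u) := by
  rw [Fintype.sum_sum_type, ← Finset.sum_add_distrib, Finset.sum_range]
  refine Finset.sum_congr rfl fun i _ => ?_
  simp [Bi.vec]

theorem Bi.vec_li : LinearIndependent F β.vec := by
  rw [Fintype.linearIndependent_iff]
  intro c hc
  rw [β.sum_vec] at hc
  have h := β.indep _ _ _ _ hc
  rintro (⟨i, hi⟩ | ⟨i, hi⟩)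
  · simpa [hi] using (h i hi).1
  · simpa [hi] using (h i hi).2

theorem Bi.span_top : Submodule.span F (Set.range β.vec) = ⊤ := by
  refine β.indec _ (fun x hx => β.vec_mem_inv hx) (nd_of_forall fun y hy ho => ?_) ?_
  · obtain ⟨c, rfl⟩ := (Submodule.mem_span_range_iff_exists_fun F).1 hy
    set y := ∑ i, c i • β.vec i with hy'
    have hinvU : ∀ x ∈ Submodule.span F (Set.range β.vec), β.N' x ∈ Submodule.span F (Set.range β.vec) := by
      intro x hx
      exact sub_mem (inv_mem (fun z hz => β.vec_mem_inv hz) hx) hx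
    have hperp : ∀ k : ℕ, ∀ x ∈ Submodule.span F (Set.range β.vec), B x ((β.N ^ k) y) = 0 := by
      intro k
      induction k with
      | zero => intro x hx; simpa using ho x hx
      | succ k ih =>
        intro x hx
        rw [pow_succ', Module.End.mul_apply, ← β.adjN']
        exact ih _ (hinvU x hx)
    have hall : ∀ i < β.e,
        (if h : i < β.e then c (Sum.inl ⟨i, h⟩) else 0) = 0 ∧
        (if h : i < β.e then c (Sum.inr ⟨i, h⟩) else 0) = 0 := by
      intro i
      induction i using Nat.strong_induction_on with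
      | _ i ih =>
        intro hi
        have hNy : (β.N ^ (β.e - 1 - i)) y = (if h : i < β.e then c (Sum.inl ⟨i, h⟩) else 0) • (β.N ^ (β.e - 1)) β.v +
            (if h : i < β.e then c (Sum.inr ⟨i, h⟩) else 0) • (β.N ^ (β.e - 1)) β.u := by
          rw [hy', β.sum_vec, map_sum, Finset.sum_eq_single i]
          · simp only [pow_zero, one_mul, map_add, map_smul]
            rw [← Module.End.mul_apply, ← Module.End.mul_apply, ← pow_add,
              show β.e - 1 - i + i = β.e - 1 by omega]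
          · intro j hj hji
            rcases lt_or_gt_of_ne hji with hlt | hgt
            · obtain ⟨h1, h2⟩ := ih j hlt (by omega)
              rw [h1, h2]; simp
            · simp only [pow_zero, one_mul, map_add, map_smul]
              rw [← Module.End.mul_apply, ← Module.End.mul_apply, ← pow_add,
                β.N_pow_ge (by omega)]
              simp
          · intro h; exact absurd (Finset.mem_range.2 hi) h
        have hv : β.v ∈ Submodule.span F (Set.range β.vec) :=
          Submodule.subset_span ⟨Sum.inl ⟨0, β.epos⟩, by simp [Bi.vec]⟩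
        have hu : β.u ∈ Submodule.span F (Set.range β.vec) :=
          Submodule.subset_span ⟨Sum.inr ⟨0, β.epos⟩, by simp [Bi.vec]⟩
        have e1 := hperp (β.e - 1 - i) _ hu
        have e2 := hperp (β.e - 1 - i) _ hv
        rw [hNy] at e1 e2
        have h1 : B β.v ((β.N ^ (β.e - 1)) β.v) = 0 := β.alt.isRefl _ _ (β.deg _)
        have h2 : B β.u ((β.N ^ (β.e - 1)) β.u) = 0 := β.alt.isRefl _ _ (β.deg _)
        have h3 : B β.u ((β.N ^ (β.e - 1)) β.v) = -1 := by
          rw [alt_swap β.alt]; exact congrArg Neg.neg β.pair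
        have h4 : B β.v ((β.N ^ (β.e - 1)) β.u) = 1 := by
          rw [alt_swap β.alt, β.pair', neg_neg]
        simp [hi, h1, h2, h3, h4] at e1 e2 ⊢
        exact ⟨e1, e2⟩
    rw [hy', β.sum_vec]
    refine Finset.sum_eq_zero fun i hi => ?_
    obtain ⟨a, b⟩ := hall i (Finset.mem_range.1 hi)
    rw [a, b]; simp
  · intro h
    rw [Submodule.span_eq_bot] at h
    exact β.vec_li.ne_zero (Sum.inl ⟨0, β.epos⟩) (h _ ⟨_, rfl⟩)

/-- the basis -/
noncomputable def Bi.basis : Basis (Fin β.e ⊕ Fin β.e) F V := Basis.mk β.vec_li β.span_top.ge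

theorem Bi.basis_apply (i : Fin β.e ⊕ Fin β.e) : β.basis i = β.vec i := Basis.mk_apply _ _ i

theorem Bi.finrank_eq : finrank F V = 2 * β.e := by
  rw [finrank_eq_card_basis β.basis, Fintype.card_sum, Fintype.card_fin, two_mul]

/-- changing the second generator -/
def Bi.setU (u' : V) (h : B ((β.N ^ (β.e - 1)) β.v) u' = 1) : Bi B := { β with u := u', pair := h }

/-- changing the first generator -/
def Bi.setV (v' : V) (h : B ((β.N ^ (β.e - 1)) v') β.u = 1) : Bi B := { β with v := v', pair := h }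

/-- `g + g⁻¹ - 2` -/
def Bi.S : Module.End F V := β.Ti * β.N ^ 2

theorem Bi.S_eq : β.S = β.T + β.Ti - 2 := by
  have h1 : β.Ti * (β.T * β.T) = β.T := by rw [← mul_assoc, β.Ti_T, one_mul]
  show β.Ti * β.N ^ 2 = _
  rw [pow_two, Bi.N]
  simp only [mul_sub, sub_mul, one_mul, mul_one, β.Ti_T, h1]
  rw [← one_add_one_eq_two]
  abel

theorem Bi.S_pow (n : ℕ) : β.S ^ n = β.Ti ^ n * β.N ^ (2 * n) := by
  rw [Bi.S, (β.comm_Ti_N.pow_right 2).mul_pow, ← pow_mul]

theorem Bi.adjS (x y : V) : B (β.S x) y = B x (β.S y) := by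
  rw [β.S_eq]
  simp only [LinearMap.sub_apply, LinearMap.add_apply, map_sub, map_add, β.adj, β.adj',
    ← one_add_one_eq_two, Module.End.one_apply]
  ring

theorem Bi.adjS_pow : ∀ (n : ℕ) (x y : V), B ((β.S ^ n) x) y = B x ((β.S ^ n) y)
  | 0, x, y => by simp
  | n + 1, x, y => by
    conv_lhs => rw [pow_succ]
    conv_rhs => rw [pow_succ']
    show B ((β.S ^ n) (β.S x)) y = B x (β.S ((β.S ^ n) y))
    rw [Bi.adjS_pow n, β.adjS]

theorem Bi.S_pow_self (n : ℕ) (x : V) : B ((β.S ^ n) x) x = 0 := by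
  rcases Nat.even_or_odd n with ⟨j, rfl⟩ | ⟨j, rfl⟩
  · rw [pow_add, Module.End.mul_apply, β.adjS_pow]
    exact β.alt _
  · have h1 : ∀ y, B (β.S y) y = 0 := by
      intro y
      rw [β.S_eq]
      simp only [LinearMap.sub_apply, LinearMap.add_apply, map_sub, map_add, β.adj',
        ← one_add_one_eq_two, Module.End.one_apply, β.alt y, alt_swap β.alt y (β.T y)]
      ring
    rw [show 2 * j + 1 = j + (1 + j) by omega, pow_add, Module.End.mul_apply, β.adjS_pow,
      pow_add, pow_one, Module.End.mul_apply]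
    exact h1 _

/-- exponent of the vector with index `j` of the Lagrangian basis -/
def Bi.wexp (j : ℕ) : ℕ := if j % 2 = 0 then j else j - 1 + β.e % 2

/-- the Lagrangian basis -/
def Bi.wvec (j : Fin β.e) : V :=
  if (j : ℕ) % 2 = 0 then (β.S ^ ((j : ℕ) / 2)) β.v else (β.S ^ ((j : ℕ) / 2) * β.N ^ (β.e % 2)) β.u

theorem Bi.wvec_eq (j : Fin β.e) :
    β.wvec j = if (j : ℕ) % 2 = 0 then (β.Ti ^ ((j : ℕ) / 2) * β.N ^ β.wexp j) β.v
      else (β.Ti ^ ((j : ℕ) / 2) * β.N ^ β.wexp j) β.u := by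
  unfold Bi.wvec Bi.wexp
  split
  · rename_i h
    rw [β.S_pow, show 2 * ((j : ℕ) / 2) = (j : ℕ) by omega]
  · rename_i h
    rw [β.S_pow, mul_assoc, ← pow_add, show 2 * ((j : ℕ) / 2) + β.e % 2 = (j : ℕ) - 1 + β.e % 2 by omega]

theorem Bi.wexp_lt (j : Fin β.e) : β.wexp j < β.e := by
  have := j.isLt
  unfold Bi.wexp
  split <;> omega

/-- coefficients as functions of the exponent -/
noncomputable def Bi.cv (c : Fin β.e → F) (i : ℕ) : F :=
  if h : i < β.e ∧ i % 2 = 0 then c ⟨i, h.1⟩ else 0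

/-- coefficients as functions of the exponent -/
noncomputable def Bi.cu (c : Fin β.e → F) (i : ℕ) : F :=
  if h : i + 1 - β.e % 2 < β.e ∧ i % 2 = β.e % 2 ∧ β.e % 2 ≤ i then c ⟨i + 1 - β.e % 2, h.1⟩ else 0

theorem Bi.sum_wvec (k : ℕ) (c : Fin β.e → F) :
    (β.N ^ k) (∑ j, c j • β.wvec j) = ∑ i ∈ Finset.range β.e,
      (β.cv c i • (β.Ti ^ (i / 2) * β.N ^ (i + k)) β.v + β.cu c i • (β.Ti ^ (i / 2) * β.N ^ (i + k)) β.u) := by
  classical
  rw [map_sum, Finset.sum_add_distrib]
  rw [← Finset.sum_filter_add_sum_filter_not Finset.univ (fun j : Fin β.e => (j : ℕ) % 2 = 0)]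
  have hN : ∀ (n : ℕ) (w : ℕ) (x : V), (β.N ^ k) ((β.Ti ^ n * β.N ^ w) x) = (β.Ti ^ n * β.N ^ (w + k)) x := by
    intro n w x
    rw [← Module.End.mul_apply, ← mul_assoc, ← (β.comm_Ti_N.pow_pow n k).eq, mul_assoc, ← pow_add,
      add_comm k w]
  congr 1
  · rw [← Finset.sum_filter_of_ne (s := Finset.range β.e) (p := fun i => i % 2 = 0)]
    · refine Finset.sum_bij (fun j _ => (j : ℕ)) ?_ ?_ ?_ ?_
      · intro j hj
        simp at hj ⊢
        exact hj
      · intro a _ b _ h; exact Fin.ext h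
      · intro i hi
        simp at hi
        exact ⟨⟨i, hi.1⟩, by simp [hi.2], rfl⟩
      · intro j hj
        simp at hj
        rw [map_smul, β.wvec_eq, if_pos hj, hN]
        simp [Bi.cv, Bi.wexp, hj]
    · intro i hi hne
      by_contra h
      apply hne
      simp [Bi.cv, h]
  · rw [← Finset.sum_filter_of_ne (s := Finset.range β.e)
      (p := fun i => i + 1 - β.e % 2 < β.e ∧ i % 2 = β.e % 2 ∧ β.e % 2 ≤ i)]
    · refine Finset.sum_bij (fun j _ => β.wexp j) ?_ ?_ ?_ ?_
      · intro j hj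
        simp at hj
        have := β.wexp_lt j
        simp [Bi.wexp, hj] at this ⊢
        omega
      · intro a ha b hb h
        simp at ha hb
        simp [Bi.wexp, ha, hb] at h
        exact Fin.ext (by omega)
      · intro i hi
        simp at hi
        refine ⟨⟨i + 1 - β.e % 2, hi.2.1⟩, by simp; omega, ?_⟩
        unfold Bi.wexp
        rw [if_neg (by simp; omega)]
        simp
        omega
      · intro j hj
        simp at hj
        rw [map_smul, β.wvec_eq, if_neg (by omega), hN]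
        have hlt := j.isLt
        have hw : β.wexp j = (j : ℕ) - 1 + β.e % 2 := by simp [Bi.wexp, hj]
        rw [hw]
        have h2 : ((j : ℕ) - 1 + β.e % 2) / 2 = (j : ℕ) / 2 := by omega
        rw [h2]
        congr 1
        rw [Bi.cu, dif_pos ⟨by omega, by omega, by omega⟩]
        congr 1
        exact Fin.ext (by simp; omega)
    · intro i hi hne
      by_contra h
      apply hne
      rw [Bi.cu, dif_neg h, zero_smul]

theorem Bi.wvec_li : LinearIndependent F β.wvec := by
  rw [Fintype.linearIndependent_iff]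
  intro c hc
  have h0 := β.sum_wvec 0 c
  rw [hc, map_zero] at h0
  simp only [add_zero] at h0
  have h := β.indep _ _ _ _ h0.symm
  intro j
  by_cases hj : (j : ℕ) % 2 = 0
  · have := (h j j.isLt).1
    simpa [Bi.cv, hj, j.isLt] using this
  · have hlt := j.isLt
    have := (h ((j : ℕ) - 1 + β.e % 2) (by omega)).2
    rw [Bi.cu, dif_pos ⟨by omega, by omega, by omega⟩] at this
    rw [← this]
    congr 1
    exact Fin.ext (by simp; omega)

/-- the Lagrangian theorem -/
theorem Bi.exists_lagr :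
    ∃ (W : Submodule F V), Lagr B ⊤ W ∧
      (∀ w ∈ W, ∀ w' ∈ W, B w (β.g w') = B w' (β.g w)) ∧
      (∀ w ∈ W, β.g w ∈ W → β.g w = w) ∧
      (Odd β.e → ∃ z ∈ W, z ≠ 0 ∧ β.g z = z ∧ ∀ w ∈ W, β.g w = w → w ∈ Submodule.span F {z}) := by
  classical
  -- adjust the second generator
  obtain ⟨u', hpair, hperp⟩ : ∃ u', B ((β.N ^ (β.e - 1)) β.v) u' = 1 ∧
      ∀ n : ℕ, B ((β.S ^ n) β.v) ((β.N ^ (β.e % 2)) u') = 0 := by
    set P := Submodule.span F (Set.range fun n : ℕ => (β.N' ^ (β.e % 2) * β.S ^ n) β.v) with hP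
    have hnot : (β.N ^ (β.e - 1)) β.v ∉ P := by
      intro hmem
      have hle : P ≤ Submodule.span F (Set.range fun i : Fin β.e =>
          (if (i : ℕ) % 2 = β.e % 2 then (1 : F) else 0) • (β.Ti ^ ((i : ℕ) / 2 + β.e % 2) * β.N ^ (i : ℕ)) β.v) := by
        rw [hP, Submodule.span_le]
        rintro _ ⟨n, rfl⟩
        show (β.N' ^ (β.e % 2) * β.S ^ n) β.v ∈ _
        rw [β.N'_pow, β.S_pow, smul_mul_assoc, LinearMap.smul_apply]
        refine Submodule.smul_mem _ _ ?_
        rw [mul_assoc, ← mul_assoc (β.N ^ _), ← (β.comm_Ti_N.pow_pow n _).eq, mul_assoc, ← pow_add,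
          ← mul_assoc, ← pow_add]
        by_cases h : β.e % 2 + 2 * n < β.e
        · refine Submodule.subset_span ⟨⟨_, h⟩, ?_⟩
          simp only
          rw [if_pos (by omega), one_smul, show (β.e % 2 + 2 * n) / 2 + β.e % 2 = β.e % 2 + n by omega]
        · rw [β.N_pow_ge (by omega)]; simp
      obtain ⟨c, hc⟩ := (Submodule.mem_span_range_iff_exists_fun F).1 (hle hmem)
      have h := β.indep (fun i => if i = β.e - 1 then 0 else i / 2 + β.e % 2) (fun _ => 0)
        (fun i => if h : i < β.e then (if i = β.e - 1 then -1 else c ⟨i, h⟩ * (if i % 2 = β.e % 2 then 1 else 0)) else 0)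
        (fun _ => 0) ?_
      · have := (h (β.e - 1) (by have := β.epos; omega)).1
        simp [β.epos] at this
      · have he := β.epos
        rw [Finset.sum_range]
        simp only [Fin.is_lt, dite_true, zero_smul, add_zero]
        have hsplit : ∀ i : Fin β.e,
            (if (i : ℕ) = β.e - 1 then -1 else c ⟨i, i.isLt⟩ * (if (i : ℕ) % 2 = β.e % 2 then (1 : F) else 0)) •
              (β.Ti ^ (if (i : ℕ) = β.e - 1 then 0 else (i : ℕ) / 2 + β.e % 2) * β.N ^ (i : ℕ)) β.v =
            c i • ((if (i : ℕ) % 2 = β.e % 2 then (1 : F) else 0) • (β.Ti ^ ((i : ℕ) / 2 + β.e % 2) * β.N ^ (i : ℕ)) β.v) -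
              (if i = ⟨β.e - 1, by omega⟩ then (1 : F) else 0) • (β.N ^ (β.e - 1)) β.v := by
          intro i
          by_cases hi : (i : ℕ) = β.e - 1
          · rw [if_pos hi, if_pos hi, if_neg (by omega), if_pos (Fin.ext hi), hi, pow_zero, one_mul]
            simp
          · rw [if_neg hi, if_neg hi, if_neg (fun h => hi (congrArg Fin.val h))]
            simp [smul_smul]
        rw [Finset.sum_congr rfl fun i _ => hsplit i, Finset.sum_sub_distrib, hc]
        simp
    obtain ⟨f, hf1, hf2⟩ := Submodule.exists_dual_map_eq_bot_of_notMem hnot inferInstance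
    obtain ⟨u', hu'⟩ := (LinearMap.BilinForm.toDual B.flip β.nd.flip).surjective
      ((f ((β.N ^ (β.e - 1)) β.v))⁻¹ • f)
    have hu'' : ∀ x, B x u' = (f ((β.N ^ (β.e - 1)) β.v))⁻¹ * f x := fun x => by
      have := LinearMap.congr_fun hu' x
      simpa [LinearMap.BilinForm.toDual_def] using this
    refine ⟨u', by rw [hu'', inv_mul_cancel₀ hf1], fun n => ?_⟩
    rw [← β.adjN'_pow, hu'', ← Module.End.mul_apply]
    have : f ((β.N' ^ (β.e % 2) * β.S ^ n) β.v) = 0 := by
      have h0 : f ((β.N' ^ (β.e % 2) * β.S ^ n) β.v) ∈ P.map f :=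
        Submodule.mem_map_of_mem (Submodule.subset_span ⟨n, rfl⟩)
      rwa [hf2, Submodule.mem_bot] at h0
    rw [this, mul_zero]
  suffices H : ∀ β : Bi B, (∀ n : ℕ, B ((β.S ^ n) β.v) ((β.N ^ (β.e % 2)) β.u) = 0) →
      ∃ (W : Submodule F V), Lagr B ⊤ W ∧
      (∀ w ∈ W, ∀ w' ∈ W, B w (β.g w') = B w' (β.g w)) ∧
      (∀ w ∈ W, β.g w ∈ W → β.g w = w) ∧
      (Odd β.e → ∃ z ∈ W, z ≠ 0 ∧ β.g z = z ∧ ∀ w ∈ W, β.g w = w → w ∈ Submodule.span F {z}) by
    exact H (β.setU u' hpair) hperp
  clear hperp hpair u'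
  intro β hperp
  set W := Submodule.span F (Set.range β.wvec) with hW
  have hgen : ∀ x ∈ W, ∀ y ∈ W, B x y = 0 := by
    intro x hx y hy
    induction hx, hy using Submodule.span_induction₂ with
    | mem_mem x y hx hy =>
      obtain ⟨i, rfl⟩ := hx
      obtain ⟨j, rfl⟩ := hy
      have hs : ∀ (a b : ℕ) (z : V), B ((β.S ^ a) z) ((β.S ^ b) z) = 0 := by
        intro a b z
        rw [← β.adjS_pow, ← Module.End.mul_apply, ← pow_add]
        exact β.S_pow_self _ _
      have hc : ∀ a b : ℕ, B ((β.S ^ a) β.v) ((β.S ^ b * β.N ^ (β.e % 2)) β.u) = 0 := by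
        intro a b
        rw [Module.End.mul_apply, ← β.adjS_pow, ← Module.End.mul_apply, ← pow_add]
        exact hperp _
      unfold Bi.wvec
      split <;> split
      · exact hs _ _ _
      · exact hc _ _
      · exact β.alt.isRefl _ _ (hc _ _)
      · rw [Module.End.mul_apply, Module.End.mul_apply]; exact hs _ _ _
    | zero_left y hy => simp
    | zero_right x hx => simp
    | add_left x y z hx hy hz h1 h2 => simp [h1, h2]
    | add_right x y z hx hy hz h1 h2 => simp [h1, h2]
    | smul_left r x y hx hy h => simp [h]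
    | smul_right r x y hx hy h => simp [h]
  have hdim : finrank F W = β.e := by
    rw [hW, finrank_span_eq_card β.wvec_li, Fintype.card_fin]
  have hlagr : Lagr B ⊤ W := by
    refine ⟨le_top, hgen, ?_⟩
    rw [inf_top_eq]
    have hle : W ≤ B.orthogonal W := fun y hy x hx => hgen x hx y hy
    refine (Submodule.eq_of_le_of_finrank_eq hle ?_).ge
    have h1 := LinearMap.BilinForm.finrank_orthogonal β.nd W
    rw [hdim, β.finrank_eq] at h1
    omega
  have hS : ∀ w ∈ W, β.S w ∈ W := by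
    intro w hw
    refine (Submodule.span_le (p := W.comap β.S)).2 ?_ hw
    rintro _ ⟨j, rfl⟩
    show β.S (β.wvec j) ∈ W
    have key : ∀ x, β.S ((β.S ^ ((j : ℕ) / 2)) x) = (β.S ^ ((j : ℕ) / 2 + 1)) x := fun x => by
      rw [pow_succ', Module.End.mul_apply]
    unfold Bi.wvec
    by_cases hj : (j : ℕ) % 2 = 0
    · rw [if_pos hj, key]
      by_cases h : (j : ℕ) + 2 < β.e
      · refine Submodule.subset_span ⟨⟨(j : ℕ) + 2, h⟩, ?_⟩
        unfold Bi.wvec
        rw [if_pos (by simp; omega)]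
        congr 2
        simp
      · rw [β.S_pow, β.N_pow_ge (by omega)]; simp
    · rw [if_neg hj, Module.End.mul_apply, key, ← Module.End.mul_apply]
      by_cases h : (j : ℕ) + 2 < β.e
      · refine Submodule.subset_span ⟨⟨(j : ℕ) + 2, h⟩, ?_⟩
        unfold Bi.wvec
        rw [if_neg (by simp; omega)]
        congr 3
        simp
      · rw [β.S_pow, mul_assoc, ← pow_add, β.N_pow_ge (by omega)]; simp
  have hsym : ∀ w ∈ W, ∀ w' ∈ W, B w (β.g w') = B w' (β.g w) := by
    intro w hw w' hw'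
    have h := hgen w hw _ (hS w' hw')
    rw [β.S_eq] at h
    simp only [LinearMap.sub_apply, LinearMap.add_apply, map_sub, map_add,
      ← one_add_one_eq_two, Module.End.one_apply, hgen w hw w' hw', ← β.adj] at h
    rw [alt_swap β.alt (β.T w) w'] at h
    simp only [Bi.T, LinearEquiv.coe_coe] at h
    linear_combination h
  -- elements of the Lagrangian killed by the square of the nilpotent part
  have hK : ∀ c : Fin β.e → F, (β.N ^ 2) (∑ j, c j • β.wvec j) = 0 →
      β.N (∑ j, c j • β.wvec j) ∈ W → β.N (∑ j, c j • β.wvec j) = 0 := by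
    intro c h2 hmem
    have he := β.epos
    rw [β.sum_wvec] at h2
    -- low exponents vanish
    have hlow : ∀ i, i + 2 < β.e → β.cv c i = 0 ∧ β.cu c i = 0 := by
      intro i hi
      have := β.indep (fun i => (i - 2) / 2) (fun i => (i - 2) / 2)
        (fun i => if 2 ≤ i then β.cv c (i - 2) else 0) (fun i => if 2 ≤ i then β.cu c (i - 2) else 0) ?_
        (i + 2) hi
      · simpa using this
      · rw [← h2]
        by_cases he2 : 2 ≤ β.e
        · rw [show Finset.range β.e = Finset.range (2 + (β.e - 2)) by rw [Nat.add_sub_cancel' he2],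
            Finset.sum_range_add]
          have hz : ∑ x ∈ Finset.range 2, ((if 2 ≤ x then β.cv c (x - 2) else 0) • (β.Ti ^ ((x - 2) / 2) * β.N ^ x) β.v +
              (if 2 ≤ x then β.cu c (x - 2) else 0) • (β.Ti ^ ((x - 2) / 2) * β.N ^ x) β.u) = 0 :=
            Finset.sum_eq_zero fun x hx => by
              simp at hx; simp [show ¬ 2 ≤ x by omega]
          rw [hz, zero_add, show 2 + (β.e - 2) = (β.e - 2) + 2 by omega,
            Finset.sum_range_add _ (β.e - 2) 2]
          have hz2 : ∑ x ∈ Finset.range 2, (β.cv c (β.e - 2 + x) • (β.Ti ^ ((β.e - 2 + x) / 2) * β.N ^ (β.e - 2 + x + 2)) β.v +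
              β.cu c (β.e - 2 + x) • (β.Ti ^ ((β.e - 2 + x) / 2) * β.N ^ (β.e - 2 + x + 2)) β.u) = 0 :=
            Finset.sum_eq_zero fun x _ => by rw [β.N_pow_ge (by omega)]; simp
          rw [hz2, add_zero]
          refine Finset.sum_congr rfl fun x _ => ?_
          simp [add_comm 2 x]
        · omega
    -- the image lies in degree e - 1
    have hform : ∃ a b : F, β.N (∑ j, c j • β.wvec j) = a • (β.N ^ (β.e - 1)) β.v + b • (β.N ^ (β.e - 1)) β.u ∧
        (Odd β.e → a = 0) := by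
      have h1 := β.sum_wvec 1 c
      rw [pow_one] at h1
      by_cases he2 : β.e = 1
      · refine ⟨0, 0, ?_, fun _ => rfl⟩
        rw [h1, he2, Finset.sum_range_one, β.N_pow_ge (by omega)]
        simp
      · refine ⟨β.cv c (β.e - 2), β.cu c (β.e - 2), ?_, ?_⟩
        · rw [h1, Finset.sum_eq_single (β.e - 2)]
          · rw [show β.e - 2 + 1 = β.e - 1 by omega, β.Ti_pow_top]
          · intro i hi hne
            simp at hi
            by_cases h : i + 2 < β.e
            · obtain ⟨a, b⟩ := hlow i h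
              rw [a, b]; simp
            · rw [β.N_pow_ge (by omega)]; simp
          · intro h; simp at h; omega
        · rintro ⟨k, hk⟩
          rw [Bi.cv, dif_neg (by omega)]
    obtain ⟨a, b, hab, hodd⟩ := hform
    rw [hab] at hmem
    obtain ⟨d, hd⟩ := (Submodule.mem_span_range_iff_exists_fun F).1 hmem
    have hd0 := β.sum_wvec 0 d
    rw [pow_zero, Module.End.one_apply, hd] at hd0
    simp only [add_zero] at hd0
    have hindep := β.indep (fun i => if i = β.e - 1 then 0 else i / 2) (fun i => if i = β.e - 1 then 0 else i / 2)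
      (fun i => β.cv d i - if i = β.e - 1 then a else 0) (fun i => β.cu d i - if i = β.e - 1 then b else 0) ?_
      (β.e - 1) (by omega)
    · simp at hindep
      rcases Nat.even_or_odd β.e with ⟨k, hk⟩ | hk
      · rw [Bi.cv, dif_neg (by omega), Bi.cu, dif_neg (by omega)] at hindep
        simp at hindep
        rw [hab, hindep.1, hindep.2]; simp
      · obtain ⟨k, hk'⟩ := hk
        rw [Bi.cu, dif_neg (by omega)] at hindep
        simp at hindep
        rw [hab, hodd ⟨k, hk'⟩, hindep.2]; simp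
    · have hsplit : ∀ i ∈ Finset.range β.e,
          (β.cv d i - if i = β.e - 1 then a else 0) • (β.Ti ^ (if i = β.e - 1 then 0 else i / 2) * β.N ^ i) β.v +
            (β.cu d i - if i = β.e - 1 then b else 0) • (β.Ti ^ (if i = β.e - 1 then 0 else i / 2) * β.N ^ i) β.u =
          (β.cv d i • (β.Ti ^ (i / 2) * β.N ^ i) β.v + β.cu d i • (β.Ti ^ (i / 2) * β.N ^ i) β.u) -
            if i = β.e - 1 then a • (β.N ^ (β.e - 1)) β.v + b • (β.N ^ (β.e - 1)) β.u else 0 := by
        intro i _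
        by_cases hi : i = β.e - 1
        · simp only [if_pos hi]
          rw [hi, pow_zero, one_mul, β.Ti_pow_top]
          simp only [sub_smul]; abel
        · simp only [if_neg hi, sub_zero]
      rw [Finset.sum_congr rfl hsplit, Finset.sum_sub_distrib, ← hd0, Finset.sum_ite_eq',
        if_pos (Finset.mem_range.2 (by omega)), sub_self]
  have hfix : ∀ w ∈ W, β.g w ∈ W → β.g w = w := by
    -- descend to the kernel of the square
    intro w hw hgw
    by_contra hne
    have hN : ∀ x, β.N x = β.g x - x := fun x => rfl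
    have hstep : ∀ n : ℕ, ∀ x ∈ W, β.g x ∈ W → (β.N ^ n) x ∈ W ∧ β.g ((β.N ^ n) x) ∈ W := by
      intro n
      induction n with
      | zero => intro x hx hx'; exact ⟨hx, hx'⟩
      | succ n ih =>
        intro x hx hx'
        obtain ⟨h1, h2⟩ := ih x hx hx'
        rw [pow_succ', Module.End.mul_apply, hN]
        refine ⟨sub_mem h2 h1, ?_⟩
        rw [map_sub]
        refine sub_mem ?_ h2
        have h3 : β.g (β.g ((β.N ^ n) x)) = β.g (β.S ((β.N ^ n) x)) + (β.g ((β.N ^ n) x) + β.g ((β.N ^ n) x)) - (β.N ^ n) x := by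
          rw [β.S_eq]
          simp [Bi.T, Bi.Ti, ← one_add_one_eq_two]
        have h4 : β.g (β.g ((β.N ^ n) x)) = β.S (β.g ((β.N ^ n) x)) + (β.g ((β.N ^ n) x) + β.g ((β.N ^ n) x)) - (β.N ^ n) x := by
          rw [β.S_eq]
          simp [Bi.T, Bi.Ti, ← one_add_one_eq_two]
        rw [h4]
        exact sub_mem (add_mem (hS _ h2) (add_mem h2 h2)) h1
    obtain ⟨n, hn0, hn1⟩ : ∃ n, (β.N ^ (n + 1)) w ≠ 0 ∧ (β.N ^ (n + 2)) w = 0 := by
      have h1 : (β.N ^ 1) w ≠ 0 := by rw [pow_one, hN]; exact sub_ne_zero.2 hne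
      have hex : ∃ n, (β.N ^ (n + 2)) w = 0 := ⟨β.e, by rw [β.N_pow_ge (by omega)]; rfl⟩
      refine ⟨Nat.find hex, ?_, Nat.find_spec hex⟩
      by_cases h : Nat.find hex = 0
      · rw [h]; exact h1
      · have := Nat.find_min hex (show Nat.find hex - 1 < Nat.find hex by omega)
        rwa [show Nat.find hex - 1 + 2 = Nat.find hex + 1 by omega] at this
    obtain ⟨hx, hgx⟩ := hstep n w hw hgw
    obtain ⟨c, hc⟩ := (Submodule.mem_span_range_iff_exists_fun F).1 hx
    refine hn0 ?_
    rw [pow_succ', Module.End.mul_apply, ← hc]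
    refine hK c ?_ ?_
    · rw [hc, ← Module.End.mul_apply, ← pow_add, add_comm 2 n]; exact hn1
    · rw [hc, hN]; exact sub_mem hgx hx
  refine ⟨W, hlagr, hsym, hfix, ?_⟩
  rintro ⟨k, hk⟩
  have hz : β.wvec ⟨β.e - 1, by omega⟩ = (β.N ^ (β.e - 1)) β.v := by
    rw [β.wvec_eq, if_pos (by simp; omega)]
    simp [Bi.wexp, show (β.e - 1) % 2 = 0 by omega, β.Ti_pow_top]
  refine ⟨(β.N ^ (β.e - 1)) β.v, hz ▸ Submodule.subset_span ⟨_, rfl⟩, ?_, ?_, ?_⟩
  · intro h
    exact β.vec_li.ne_zero (Sum.inl ⟨β.e - 1, by omega⟩) (by simpa [Bi.vec] using h)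
  · have h : β.N ((β.N ^ (β.e - 1)) β.v) = 0 := by
      rw [← Module.End.mul_apply, ← pow_succ', β.N_pow_ge (by omega)]; rfl
    exact sub_eq_zero.1 h
  · intro w hw hgw
    obtain ⟨c, hc⟩ := (Submodule.mem_span_range_iff_exists_fun F).1 hw
    have h1 : β.N w = 0 := sub_eq_zero.2 hgw
    rw [← hc] at h1
    have h2 := β.sum_wvec 1 c
    rw [pow_one, h1] at h2
    have hind : ∀ i, i + 1 < β.e → β.cv c i = 0 ∧ β.cu c i = 0 := by
      intro i hi
      have := β.indep (fun i => (i - 1) / 2) (fun i => (i - 1) / 2)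
        (fun i => if 1 ≤ i then β.cv c (i - 1) else 0) (fun i => if 1 ≤ i then β.cu c (i - 1) else 0) ?_
        (i + 1) hi
      · simpa using this
      · obtain ⟨e', he'⟩ : ∃ e', β.e = e' + 1 := ⟨β.e - 1, by omega⟩
        rw [he', Finset.sum_range_succ'] 
        rw [he', Finset.sum_range_succ, β.N_pow_ge (show β.e ≤ e' + 1 by omega)] at h2
        simp at h2 ⊢
        exact h2.symm
    rw [← hc]
    refine Submodule.sum_mem _ fun j _ => ?_
    by_cases hj : (j : ℕ) = β.e - 1
    · rw [show j = ⟨β.e - 1, by omega⟩ from Fin.ext hj, hz]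
      exact Submodule.smul_mem _ _ (Submodule.mem_span_singleton_self _)
    · have hlt := j.isLt
      suffices c j = 0 by rw [this, zero_smul]; exact zero_mem _
      by_cases hp : (j : ℕ) % 2 = 0
      · have := (hind j (by omega)).1
        rwa [Bi.cv, dif_pos ⟨j.isLt, hp⟩] at this
      · have := (hind j (by omega)).2
        rw [Bi.cu, dif_pos ⟨by omega, by omega, by omega⟩] at this
        rw [← this]
        congr 1
        exact Fin.ext (by simp; omega)

end CfsgLib.OreSp
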